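import Groth.Agent.Crv77.UnitsFG
import Mathlib

/-!
Group-like units of a finitely generated algebra with a comultiplication form a finitely generated group
(positive characteristic).
-/

set_option autoImplicit false
universe u

noncomputable section

open scoped TensorProduct

namespace Groth.Agent.Zeta24

variable {k A : Type u} [Field k] [CommRing A] [Algebra k A] (Δ : A →ₐ[k] A ⊗[k] A)

/-- Units with `Δ u = u ⊗ u`. -/
def grpLikeUnits : Subgroup Aˣ where
  carrier := {u | Δ (u : A) = (u : A) ⊗ₜ (u : A)}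
  mul_mem' {u v} hu hv := by
    simp only [Set.mem_ofPred_eq, Units.val_mul, map_mul] at hu hv ⊢
    rw [hu, hv, Algebra.TensorProduct.tmul_mul_tmul]
  one_mem' := by simp [Algebra.TensorProduct.one_def]
  inv_mem' {u} hu := by
    simp only [Set.mem_ofPred_eq] at hu ⊢
    have h : Δ (u : A) * Δ ((u⁻¹ : Aˣ) : A) = 1 := by rw [← map_mul, Units.mul_inv, map_one]
    rw [hu] at h
    refine left_inv_eq_right_inv ?_ h |>.symm
    rw [Algebra.TensorProduct.tmul_mul_tmul, Units.inv_mul, Algebra.TensorProduct.one_def]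

theorem mem_grpLikeUnits {u : Aˣ} : u ∈ grpLikeUnits Δ ↔ Δ (u : A) = (u : A) ⊗ₜ (u : A) := Iff.rfl

theorem linearIndependent_grpLike [Nontrivial A] :
    LinearIndependent k fun u : grpLikeUnits Δ => ((u : Aˣ) : A) := by
  classical
  rw [linearIndependent_iff_finset_linearIndependent]
  intro s
  induction s using Finset.induction_on with
  | empty => exact linearIndependent_empty_type
  | insert u s hu ih =>
    set f : grpLikeUnits Δ → A := fun u => ((u : Aˣ) : A)
    have ih' : LinearIndepOn k f (s : Set (grpLikeUnits Δ)) := ih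
    show LinearIndepOn k f ((insert u s : Finset _) : Set _)
    rw [Finset.coe_insert]
    refine ih'.insert fun hmem => ?_
    rw [Submodule.mem_span_image_iff_exists_fun] at hmem
    obtain ⟨t, ht, c, hc⟩ := hmem
    have ht' : LinearIndependent k (fun a : t => f a) := ih'.mono ht
    have hf : ∀ a : t, Δ (f a) = f a ⊗ₜ f a := fun a => (a : grpLikeUnits Δ).2
    have h1 : f u ⊗ₜ[k] f u = ∑ a : t, c a • (f a ⊗ₜ[k] f a) := by
      rw [show f u ⊗ₜ[k] f u = Δ (f u) from u.2.symm, ← hc, map_sum]
      simp only [map_smul, hf]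
    rw [← hc, TensorProduct.sum_tmul] at h1
    simp only [TensorProduct.tmul_sum, TensorProduct.smul_tmul', TensorProduct.tmul_smul, smul_smul] at h1
    have hind := ht'.tmul_of_isDomain ht'
    have h2 : ∀ a b : t, c a * c b = if a = b then c a else 0 := by
      have h3 : ∑ p : t × t, (c p.1 * c p.2 - if p.1 = p.2 then c p.1 else 0) •
          (f p.1 ⊗ₜ[k] f p.2) = 0 := by
        rw [Fintype.sum_prod_type]
        simp only [sub_smul, Finset.sum_sub_distrib, ite_smul, zero_smul, Finset.sum_ite_eq,
          Finset.mem_univ, if_true, sub_eq_zero]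
        simp only [TensorProduct.smul_tmul']
        rw [← h1]
        refine Finset.sum_congr rfl fun a _ => Finset.sum_congr rfl fun b _ => ?_
        rw [mul_comm]
      intro a b
      exact sub_eq_zero.1 (Fintype.linearIndependent_iff.1 hind _ h3 (a, b))
    by_cases h : ∃ a, c a ≠ 0
    · obtain ⟨a, ha⟩ := h
      have hone : c a = 1 := by
        have := h2 a a
        rw [if_pos rfl] at this
        exact mul_left_cancel₀ ha (this.trans (mul_one _).symm)
      have hzero : ∀ b, b ≠ a → c b = 0 := fun b hb => by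
        have := h2 a b
        rw [if_neg (Ne.symm hb), hone, one_mul] at this
        exact this
      rw [Finset.sum_eq_single a (fun b _ hb => by rw [hzero b hb, zero_smul]) (by simp), hone, one_smul] at hc
      have : u = (a : grpLikeUnits Δ) := Subtype.ext (Units.ext hc.symm)
      exact hu (this ▸ ht a.2)
    · push_neg at h
      refine (u : Aˣ).ne_zero ?_
      rw [show ((u : Aˣ) : A) = f u from rfl, ← hc]
      simp [h]

/-- Kernel of a monomial map bounded by nilpotency. -/
theorem finite_pTorsion [Nontrivial A] [IsNoetherianRing A] (p : ℕ) [Fact p.Prime] [CharP k p] (H : Subgroup Aˣ)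
    (hH : H ≤ grpLikeUnits Δ) (hnil : ∀ u ∈ H, IsNilpotent ((u : A) - 1)) (hp : ∀ u ∈ H, u ^ p = 1) :
    Finite H := by
  classical
  letI : Module (ZMod p) (Additive H) := AddCommGroup.zmodModule fun x => by
    apply Additive.toMul.injective
    rw [toMul_nsmul, toMul_zero]
    exact Subtype.ext (hp _ x.toMul.2)
  suffices Module.Finite (ZMod p) (Additive H) by
    have : Finite (Additive H) := Module.finite_of_finite (ZMod p)
    exact Finite.of_equiv _ Additive.toMul
  by_contra hfin
  obtain ⟨M, hM⟩ := IsNoetherianRing.isNilpotent_nilradical A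
  let b := Module.Basis.ofVectorSpace (ZMod p) (Additive H)
  have : Infinite (Module.Basis.ofVectorSpaceIndex (ZMod p) (Additive H)) := by
    refine not_finite_iff_infinite.1 fun h => hfin ?_
    exact Module.Finite.of_basis b
  let e := (Fin.valEmbedding : Fin (M + 1) ↪ ℕ).trans (Infinite.natEmbedding (Module.Basis.ofVectorSpaceIndex (ZMod p) (Additive H)))
  let bv : Fin (M + 1) → Additive H := fun i => (e i).1
  let g : Fin (M + 1) → H := fun i => (bv i).toMul
  have hind : LinearIndependent (ZMod p) bv :=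
    (Module.Basis.ofVectorSpaceIndex.linearIndependent (ZMod p) (Additive H)).comp _ e.injective
  let mon : (Fin (M + 1) → Fin p) → H := fun a => ∏ i, g i ^ (a i : ℕ)
  have hmon : Function.Injective mon := by
    intro a a' h
    funext i
    have h' : ∑ i, ((a i : ℕ) : ZMod p) • bv i = ∑ i, ((a' i : ℕ) : ZMod p) • bv i := by
      apply Additive.toMul.injective
      simp only [toMul_sum, Nat.cast_smul_eq_nsmul, toMul_nsmul]
      exact h
    have := Fintype.linearIndependent_iff.1 hind (fun i => ((a i : ℕ) : ZMod p) - ((a' i : ℕ) : ZMod p))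
      (by simp only [sub_smul, Finset.sum_sub_distrib, h', sub_self]) i
    rw [sub_eq_zero, ZMod.natCast_eq_natCast_iff', Nat.mod_eq_of_lt (a i).2, Nat.mod_eq_of_lt (a' i).2] at this
    exact Fin.ext this
  haveI : CharP A p := charP_of_injective_algebraMap (algebraMap k A).injective p
  have hgeom : ∀ x : A, (x - 1) ^ (p - 1) = ∑ a : Fin p, x ^ (a : ℕ) := by
    intro x
    rw [Fin.sum_univ_eq_sum_range (fun a => x ^ a)]
    have hpoly : ((Polynomial.X : Polynomial (ZMod p)) - 1) ^ (p - 1) = ∑ a ∈ Finset.range p, Polynomial.X ^ a := by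
      refine mul_right_cancel₀ (b := (Polynomial.X : Polynomial (ZMod p)) - 1) (Polynomial.X_sub_C_ne_zero 1) ?_
      rw [← pow_succ, Nat.sub_add_cancel (Fact.out (p := p.Prime)).one_lt.le, geom_sum_mul, sub_pow_char, one_pow]
    letI : Algebra (ZMod p) A := ZMod.algebra A p
    simpa using congrArg (Polynomial.aeval x) hpoly
  have hzero : ∏ i, (((g i : Aˣ) : A) - 1) ^ (p - 1) = 0 := by
    have hmem : ∀ i, (((g i : Aˣ) : A) - 1) ^ (p - 1) ∈ nilradical A := fun i =>
      Ideal.pow_mem_of_mem _ (mem_nilradical.2 (hnil _ (g i).2)) _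
        (Nat.sub_pos_of_lt (Fact.out (p := p.Prime)).one_lt)
    have := Ideal.prod_mem_prod (s := Finset.univ) fun i _ => hmem i
    rw [Finset.prod_const, Finset.card_univ, Fintype.card_fin, pow_succ, hM] at this
    simpa using this
  simp only [hgeom, Fintype.prod_sum] at hzero
  have hli := (linearIndependent_grpLike Δ).comp (fun a => (⟨(mon a : Aˣ), hH (mon a).2⟩ : grpLikeUnits Δ))
    (fun a a' h => hmon (Subtype.ext (congrArg (fun z : grpLikeUnits Δ => (z : Aˣ)) h)))
  have := Fintype.linearIndependent_iff.1 hli (fun _ => 1) (by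
    rw [← hzero]
    refine Finset.sum_congr rfl fun a _ => ?_
    simp [mon, Units.coe_prod]) (fun _ => ⟨0, (Fact.out (p := p.Prime)).pos⟩)
  exact one_ne_zero this

theorem finite_unipotent [Nontrivial A] [IsNoetherianRing A] (p : ℕ) [Fact p.Prime] [CharP k p] (H : Subgroup Aˣ)
    (hH : H ≤ grpLikeUnits Δ) (hnil : ∀ u ∈ H, IsNilpotent ((u : A) - 1)) : Finite H := by
  haveI : CharP A p := charP_of_injective_algebraMap (algebraMap k A).injective p
  obtain ⟨M, hM⟩ := IsNoetherianRing.isNilpotent_nilradical A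
  suffices ∀ (e : ℕ) (H' : Subgroup Aˣ), H' ≤ H → (∀ u ∈ H', u ^ p ^ e = 1) → Finite H' by
    refine this M H le_rfl fun u hu => Units.ext ?_
    have h0 : ((u : A) - 1) ^ p ^ M = 0 := by
      have := Ideal.pow_mem_pow (mem_nilradical.2 (hnil u hu)) M
      rw [hM] at this
      exact pow_eq_zero_of_le (Nat.lt_pow_self (Fact.out (p := p.Prime)).one_lt).le ((Submodule.mem_bot A).1 this)
    rw [sub_pow_char_pow, one_pow, sub_eq_zero] at h0
    simpa using h0
  intro e
  induction e with
  | zero =>
    intro H' _ h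
    have : H' = ⊥ := (Subgroup.eq_bot_iff_forall _).2 fun u hu => by simpa using h u hu
    subst this
    infer_instance
  | succ e ih =>
    intro H' hle h
    let q : H' →* Aˣ := (powMonoidHom p).comp H'.subtype
    have h1 : Finite q.range := by
      refine ih q.range ?_ ?_
      · rintro _ ⟨u, rfl⟩; exact H.pow_mem (hle u.2) p
      · rintro _ ⟨u, rfl⟩
        have := h u u.2
        rw [pow_succ', pow_mul] at this
        exact this
    have h2 : Finite q.ker := by
      have h3 : Finite (q.ker.map H'.subtype) := by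
        refine finite_pTorsion Δ p _ ?_ ?_ ?_
        · rintro _ ⟨u, -, rfl⟩; exact hH (hle u.2)
        · rintro _ ⟨u, -, rfl⟩; exact hnil _ (hle u.2)
        · rintro _ ⟨u, hu, rfl⟩; exact hu
      exact Finite.of_equiv _ (q.ker.equivMapOfInjective H'.subtype H'.subtype_injective).symm.toEquiv
    haveI : Finite (H' ⧸ q.ker) := Finite.of_equiv _ (QuotientGroup.quotientKerEquivRange q).symm.toEquiv
    exact Finite.of_subgroup_quotient q.ker

theorem isNilpotent_of_forall_point [Algebra.FiniteType k A] {a : A}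
    (h : ∀ x : A →ₐ[k] AlgebraicClosure k, x a = 0) : IsNilpotent a := by
  haveI : IsJacobsonRing A := isJacobsonRing_of_finiteType (A := k)
  rw [← mem_nilradical, nilradical, Ideal.radical_eq_jacobson]
  refine Ideal.mem_sInf.2 fun {m} hm => ?_
  haveI : m.IsMaximal := hm.2
  haveI : Module.Finite k (A ⧸ m) := by
    letI := Ideal.Quotient.field m
    exact finite_of_finite_type_of_isJacobsonRing k (A ⧸ m)
  letI := Ideal.Quotient.field m
  have := h ((IsAlgClosed.lift : (A ⧸ m) →ₐ[k] AlgebraicClosure k).comp (Ideal.Quotient.mkₐ k m))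
  exact Ideal.Quotient.eq_zero_iff_mem.1
    ((IsAlgClosed.lift : (A ⧸ m) →ₐ[k] AlgebraicClosure k).toRingHom.injective (this.trans (map_zero _).symm))

/-- Group-like units form a finitely generated group. -/
theorem fg_grpLikeUnits [Nontrivial A] [Algebra.FiniteType k A] (p : ℕ) [Fact p.Prime] [CharP k p] :
    Group.FG (grpLikeUnits Δ) := by
  classical
  haveI : IsNoetherianRing A := Algebra.FiniteType.isNoetherianRing k A
  let L := AlgebraicClosure k
  haveI : Finite (minimalPrimes A) := (minimalPrimes.finite_of_isNoetherianRing A).to_subtype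
  haveI hP : ∀ P : minimalPrimes A, (P : Ideal A).IsPrime := fun P => P.2.1.1
  choose ι hι φ hφ using fun P : minimalPrimes A => Crv77.exists_units_hom k (A ⧸ (P : Ideal A))
  let Φ : grpLikeUnits Δ →* ((P : minimalPrimes A) → Multiplicative (ι P → ℤ)) :=
    MonoidHom.pi fun P => (φ P).comp ((Units.map (Ideal.Quotient.mk (P : Ideal A)).toMonoidHom).comp (grpLikeUnits Δ).subtype)
  let χ : (A →ₐ[k] L) → (Φ.ker →* Lˣ) := fun x =>
    (Units.map (x : A →* L)).comp ((grpLikeUnits Δ).subtype.comp Φ.ker.subtype)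
  have hfin : (Set.range χ).Finite := by
    let F : (P : minimalPrimes A) → Subalgebra k (A ⧸ (P : Ideal A)) := fun P => integralClosure k _
    haveI : ∀ P, FiniteDimensional k (F P) := fun P => by
      obtain ⟨m, hm⟩ := Ideal.exists_maximal (A ⧸ (P : Ideal A))
      letI := Ideal.Quotient.field m
      haveI : Module.Finite k ((A ⧸ (P : Ideal A)) ⧸ m) :=
        finite_of_finite_type_of_isJacobsonRing k _
      haveI : Algebra.IsIntegral k (F P) := ⟨fun z => integralClosure.isIntegral z⟩
      have hfield : IsField (F P) := isField_of_isIntegral_of_isField' (Field.toIsField k)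
      let ψ : F P →ₐ[k] ((A ⧸ (P : Ideal A)) ⧸ m) := (Ideal.Quotient.mkₐ k m).comp (F P).val
      letI := hfield.toField
      exact FiniteDimensional.of_injective ψ.toLinearMap ψ.toRingHom.injective
    let T : (Σ P : minimalPrimes A, F P →ₐ[k] L) → (Φ.ker →* Lˣ) := fun Pe =>
      MonoidHom.toHomUnits
        { toFun := fun g => Pe.2 ⟨Ideal.Quotient.mk (Pe.1 : Ideal A) (((g : grpLikeUnits Δ) : Aˣ) : A),
            hφ Pe.1 (Units.map (Ideal.Quotient.mk (Pe.1 : Ideal A)).toMonoidHom ((g : grpLikeUnits Δ) : Aˣ))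
              (congrFun (MonoidHom.mem_ker.1 g.2) Pe.1)⟩
          map_one' := by
            refine Eq.trans ?_ (map_one Pe.2)
            exact congrArg Pe.2 (Subtype.ext (map_one (Ideal.Quotient.mk (Pe.1 : Ideal A))))
          map_mul' := fun g g' => by
            rw [← map_mul]
            exact congrArg Pe.2 (Subtype.ext (map_mul (Ideal.Quotient.mk (Pe.1 : Ideal A)) _ _)) }
    haveI : ∀ P, Finite (F P →ₐ[k] L) := fun P => inferInstance
    refine (Set.finite_range T).subset ?_
    rintro _ ⟨x, rfl⟩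
    haveI : (RingHom.ker x).IsPrime := RingHom.ker_isPrime _
    obtain ⟨P, hPmem, hPle⟩ := Ideal.exists_minimalPrimes_le (bot_le : (⊥ : Ideal A) ≤ RingHom.ker x)
    refine ⟨⟨⟨P, hPmem⟩, (Ideal.Quotient.liftₐ P x fun a ha => hPle ha).comp (F ⟨P, hPmem⟩).val⟩, ?_⟩
    refine MonoidHom.ext fun g => Units.ext ?_
    simp only [T, χ, MonoidHom.coe_toHomUnits]
    rfl
  -- the values of a point on the kernel are roots of unity of bounded order
  have hclosed : ∀ x y : A →ₐ[k] L, ∃ z, χ z = χ x * χ y := fun x y =>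
    ⟨(Algebra.TensorProduct.productMap x y).comp Δ, MonoidHom.ext fun g => Units.ext (by
      show Algebra.TensorProduct.productMap x y (Δ _) = _
      exact (congrArg (Algebra.TensorProduct.productMap x y) (g : grpLikeUnits Δ).2).trans
        (Algebra.TensorProduct.productMap_apply_tmul _ _ _ _))⟩
  have hord : ∀ x, ∃ m : ℕ, 0 < m ∧ ∀ g, χ x g ^ m = 1 := by
    intro x
    have hp : ∀ n : ℕ, ∃ y, ∀ g, χ y g = χ x g ^ (n + 1) := by
      intro n
      induction n with
      | zero => exact ⟨x, fun g => (pow_one _).symm⟩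
      | succ n ih =>
        obtain ⟨y, hy⟩ := ih
        obtain ⟨z, hz⟩ := hclosed y x
        exact ⟨z, fun g => by rw [hz, MonoidHom.mul_apply, hy, ← pow_succ]⟩
    choose y hy using hp
    haveI := hfin.to_subtype
    obtain ⟨a, b, hab, h⟩ := Finite.exists_ne_map_eq_of_infinite (fun n : ℕ => (⟨χ (y n), y n, rfl⟩ : Set.range χ))
    have h' : ∀ g, χ x g ^ (a + 1) = χ x g ^ (b + 1) := fun g => by
      rw [← hy, ← hy]; exact DFunLike.congr_fun (congrArg Subtype.val h) g
    rcases Nat.lt_or_gt_of_ne hab with hlt | hlt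
    · exact ⟨b - a, Nat.sub_pos_of_lt hlt, fun g => mul_left_cancel (a := χ x g ^ (a + 1)) (by
        rw [← pow_add, mul_one, show a + 1 + (b - a) = b + 1 by omega, h'])⟩
    · exact ⟨a - b, Nat.sub_pos_of_lt hlt, fun g => mul_left_cancel (a := χ x g ^ (b + 1)) (by
        rw [← pow_add, mul_one, show b + 1 + (a - b) = a + 1 by omega, h'])⟩
  have hord' : ∀ c ∈ hfin.toFinset, ∃ m : ℕ, 0 < m ∧ ∀ g, c g ^ m = 1 := fun c hc => by
    obtain ⟨x, rfl⟩ := hfin.mem_toFinset.1 hc
    exact hord x
  choose m hm0 hm1 using hord'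
  let N := ∏ c ∈ hfin.toFinset.attach, m c.1 c.2
  haveI : NeZero N := ⟨Finset.prod_ne_zero_iff.2 fun c _ => (hm0 c.1 c.2).ne'⟩
  let ev : Φ.ker →* (Set.range χ → Lˣ) := MonoidHom.pi fun c => (c : Φ.ker →* Lˣ)
  haveI hevr : Finite ev.range := by
    haveI := hfin.to_subtype
    refine Finite.of_injective (fun r c => (⟨(r : Set.range χ → Lˣ) c, ?_⟩ : rootsOfUnity N L)) ?_
    · obtain ⟨g, hg⟩ := r.2
      rw [mem_rootsOfUnity, ← hg]
      obtain ⟨q, hq⟩ : m c.1 (hfin.mem_toFinset.2 c.2) ∣ N :=
        Finset.dvd_prod_of_mem (fun c : {c // c ∈ hfin.toFinset} => m c.1 c.2) (Finset.mem_attach _ ⟨c.1, hfin.mem_toFinset.2 c.2⟩)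
      show (c : Φ.ker →* Lˣ) g ^ N = 1
      rw [hq, pow_mul, hm1, one_pow]
    · intro r r' h
      exact Subtype.ext (funext fun c => congrArg Subtype.val (congrFun h c))
  haveI hevk : Finite ev.ker := by
    let j : Φ.ker →* Aˣ := (grpLikeUnits Δ).subtype.comp Φ.ker.subtype
    have : Finite (ev.ker.map j) := by
      refine finite_unipotent Δ p _ ?_ ?_
      · rintro _ ⟨g, -, rfl⟩; exact (g : grpLikeUnits Δ).2
      · rintro _ ⟨g, hg, rfl⟩
        refine isNilpotent_of_forall_point (k := k) fun x => ?_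
        have := congrArg Units.val (congrFun (MonoidHom.mem_ker.1 hg) ⟨χ x, x, rfl⟩)
        rw [map_sub, map_one, sub_eq_zero]
        exact this
    exact Finite.of_equiv _ (ev.ker.equivMapOfInjective j
      (fun a b h => Subtype.ext (Subtype.ext h))).symm.toEquiv
  haveI : Finite (Φ.ker ⧸ ev.ker) := Finite.of_equiv _ (QuotientGroup.quotientKerEquivRange ev).symm.toEquiv
  haveI : Finite Φ.ker := Finite.of_subgroup_quotient ev.ker
  -- assemble
  suffices h : Module.Finite ℤ (Additive (grpLikeUnits Δ)) by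
    exact GroupFG.iff_add_fg.2 (Module.Finite.iff_addGroup_fg.1 h)
  let Φa : Additive (grpLikeUnits Δ) →ₗ[ℤ] ((P : minimalPrimes A) → ι P → ℤ) :=
    (AddMonoidHom.mk' (fun g P => (Φ g.toMul P).toAdd) fun a b => funext fun P => by
      simp [toMul_add]).toIntLinearMap
  haveI : Finite (LinearMap.ker Φa) := Finite.of_injective
    (fun g => (⟨(g : Additive (grpLikeUnits Δ)).toMul, funext fun P =>
      Multiplicative.toAdd.injective (congrFun (LinearMap.mem_ker.1 g.2) P)⟩ : Φ.ker))
    fun a b h => Subtype.ext (congrArg (fun z : Φ.ker => Additive.ofMul (z : grpLikeUnits Δ)) h)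
  haveI : ∀ P, Finite (ι P) := hι
  haveI : Finite (LinearMap.ker Φa.rangeRestrict) := by rw [LinearMap.ker_rangeRestrict]; infer_instance
  exact Module.Finite.of_exact (LinearMap.exact_subtype_ker_map Φa.rangeRestrict) Φa.surjective_rangeRestrict

end Groth.Agent.Zeta24
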