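import Groth.Agent.CrvFF30.Count
import Groth.Agent.WC97.Points
import Groth.Agent.Zeta30.OverField
import Mathlib.FieldTheory.Finite.Extension

/-!
Points over finite extensions in terms of closed points.
-/

set_option autoImplicit false
set_option linter.style.haveILetI false

universe u

open CategoryTheory AlgebraicGeometry

namespace Groth.Agent.Zeta24

variable {k : Type u} [Field k] [Finite k] {X : Scheme.{u}} (f : X ⟶ Spec (CommRingCat.of k))
  [LocallyOfFiniteType f] [QuasiCompact f]

/-- The closed points of residue degree dividing `n`. -/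
abbrev DegDvd (n : ℕ) : Type u :=
  {y : X // EGA4loc.residueDegree f y ≠ 0 ∧ EGA4loc.residueDegree f y ∣ n}

omit [Finite k] [QuasiCompact f] in
theorem isClosed_of_residueDegree_ne_zero (y : X) (h : EGA4loc.residueDegree f y ≠ 0) :
    IsClosed ({y} : Set X) := by
  letI := (WC97.kStr f y).toAlgebra
  exact WC97.isClosed_of_finite f y (Module.finite_of_finrank_pos (Nat.pos_of_ne_zero (by
    rw [← WC97.residueDegree_eq_finrank f y]; exact h)))

omit [QuasiCompact f] in
theorem finite_fibre (k' : Type u) [Field k'] [Algebra k k'] [Finite k'] (y : X) :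
    Finite { φ : X.residueField y ⟶ CommRingCat.of k' //
      φ.hom.comp (WC97.kStr f y) = algebraMap k k' } := by
  by_cases h : IsEmpty { φ : X.residueField y ⟶ CommRingCat.of k' // φ.hom.comp (WC97.kStr f y) = algebraMap k k' }
  · infer_instance
  obtain ⟨φ⟩ := not_isEmpty_iff.1 h
  have : Finite (X.residueField y) :=
    Finite.of_injective (β := k') (φ.1.hom : X.residueField y → k') φ.1.hom.injective
  exact Finite.of_injective (fun ψ => ((ψ.1.hom : X.residueField y →+* k') : X.residueField y → k'))
    fun a b h => Subtype.ext (CommRingCat.hom_ext (DFunLike.coe_injective h))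

omit [LocallyOfFiniteType f] [QuasiCompact f] in
theorem card_fibre' (k' : Type u) [Field k'] [Algebra k k'] [Finite k'] (y : X) :
    Nat.card { φ : X.residueField y ⟶ CommRingCat.of k' // φ.hom.comp (WC97.kStr f y) = algebraMap k k' } =
      if EGA4loc.residueDegree f y ∣ Module.finrank k k' then EGA4loc.residueDegree f y else 0 := by
  rw [CrvFF30.card_fibre f k' y, WC97.residueDegree_eq_finrank f y]

theorem pointCount_facts (k' : Type u) [Field k'] [Algebra k k'] [Finite k'] :
    Finite (DegDvd f (Module.finrank k k')) ∧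
      SgaExt.pointCount f k' = Zeta.nPts f (Module.finrank k k') := by
  classical
  set n := Module.finrank k k' with hn
  have hn0 : n ≠ 0 := by
    have : Module.Finite k k' := Module.Finite.of_finite
    exact Module.finrank_pos.ne'
  let Fib := fun x : X => { φ : X.residueField x ⟶ CommRingCat.of k' //
    φ.hom.comp (WC97.kStr f x) = algebraMap k k' }
  let S := DegDvd f n
  have hmem : ∀ x, Fib x → EGA4loc.residueDegree f x ≠ 0 ∧ EGA4loc.residueDegree f x ∣ n := by
    intro x φ
    have : Finite (Fib x) := finite_fibre f k' x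
    have h := Nat.card_ne_zero.2 ⟨⟨φ⟩, this⟩
    rw [card_fibre' f k' x] at h
    split_ifs at h with hd
    · exact ⟨h, hd⟩
    · exact absurd rfl h
  let e : { g : Spec (CommRingCat.of k') ⟶ X // g ≫ f = Spec.map (CommRingCat.ofHom (algebraMap k k')) } ≃
      Σ y : S, Fib y.1 :=
    (CrvFF30.pointsEquiv f k').trans (Equiv.sigmaSubtypeEquivOfSubset Fib
      (fun x => EGA4loc.residueDegree f x ≠ 0 ∧ EGA4loc.residueDegree f x ∣ n) hmem).symm
  haveI := Zeta30.finite_points (f ≫ Zeta30.specToInt k) k'
  haveI : Finite (Σ y : S, Fib y.1) := Finite.of_equiv _ e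
  have hcard : ∀ y : S, Nat.card (Fib y.1) = EGA4loc.residueDegree f y.1 := fun y => by
    rw [card_fibre' f k' y.1, if_pos y.2.2]
  haveI hS : Finite S := Finite.of_surjective (fun z : Σ y : S, Fib y.1 => z.1) fun y => by
    have := Nat.card_ne_zero.1 (show Nat.card (Fib y.1) ≠ 0 by rw [hcard]; exact y.2.1)
    exact ⟨⟨y, this.1.some⟩, rfl⟩
  refine ⟨hS, ?_⟩
  haveI := Fintype.ofFinite S
  haveI : ∀ y : S, Finite (Fib y.1) := fun y => finite_fibre f k' y.1
  rw [SgaExt.pointCount, Nat.card_congr e, Nat.card_sigma, Finset.sum_congr rfl fun y _ => hcard y,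
    ← Finset.sum_fiberwise_of_maps_to (s := Finset.univ) (t := n.divisors)
      (g := fun y : S => EGA4loc.residueDegree f y.1)
      (fun y _ => Nat.mem_divisors.2 ⟨y.2.2, hn0⟩) (f := fun y : S => EGA4loc.residueDegree f y.1)]
  refine Finset.sum_congr rfl fun d hd => ?_
  rw [Finset.sum_congr rfl fun y hy => (Finset.mem_filter.1 hy).2, Finset.sum_const, smul_eq_mul, mul_comm]
  congr 1
  rw [Zeta.degCount, ← Fintype.card_subtype, ← Nat.card_eq_fintype_card]
  have hd0 : d ≠ 0 := (Nat.pos_of_mem_divisors hd).ne'
  exact Nat.card_congr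
    { toFun := fun y => ⟨y.1.1, isClosed_of_residueDegree_ne_zero f y.1.1 y.1.2.1, y.2⟩
      invFun := fun y => ⟨⟨y.1, by rw [y.2.2]; exact hd0, by rw [y.2.2]; exact (Nat.mem_divisors.1 hd).1⟩, y.2.2⟩
      left_inv := fun _ => rfl
      right_inv := fun _ => rfl }

omit [LocallyOfFiniteType f] [QuasiCompact f] in
/-- A finite extension of any degree, in the same universe. -/
theorem exists_extension (n : ℕ) (hn : n ≠ 0) :
    ∃ (k' : Type u) (_ : Field k') (_ : Algebra k k') (_ : Finite k'), Module.finrank k k' = n := by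
  obtain ⟨p, hp⟩ := CharP.exists k
  haveI : Fact p.Prime := ⟨(CharP.char_is_prime_or_zero k p).resolve_right (CharP.char_ne_zero_of_finite k p)⟩
  haveI : NeZero n := ⟨hn⟩
  exact ⟨ULift.{u} (FiniteField.Extension k p n), inferInstance, inferInstance, inferInstance,
    (LinearEquiv.finrank_eq ULift.moduleEquiv).trans (FiniteField.finrank_extension k p n)⟩

/-- There are finitely many closed points of given residue degree. -/
theorem finite_degree (e : ℕ) (he : e ≠ 0) :
    Finite {x : X // IsClosed ({x} : Set X) ∧ EGA4loc.residueDegree f x = e} := by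
  obtain ⟨k', _, _, _, h⟩ := exists_extension (k := k) e he
  have := (pointCount_facts f k').1
  exact Finite.of_injective
    (fun x => (⟨x.1, x.2.2.symm ▸ he, by rw [h, x.2.2]⟩ : DegDvd f (Module.finrank k k')))
    fun a b hab => by simpa [Subtype.ext_iff] using hab

end Groth.Agent.Zeta24
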