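import Groth.Agent.Zeta24.Count
import Mathlib.RingTheory.PowerSeries.Exp
import Mathlib.RingTheory.PowerSeries.Derivative
import Mathlib.RingTheory.PowerSeries.Substitution

/-!
Zeta series as exponentials; behaviour under decompositions into subschemes.
-/

set_option autoImplicit false

universe u

open CategoryTheory AlgebraicGeometry PowerSeries

namespace Groth.Agent.Zeta24

/-- A series with `G' = G c` and `G(0) = 0` vanishes. -/
theorem eq_zero_of_derivative_eq_mul {G c : PowerSeries ℚ} (h : derivative ℚ G = G * c)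
    (h0 : constantCoeff G = 0) : G = 0 := by
  ext n
  induction n using Nat.strong_induction_on with
  | _ n ih =>
    rcases n with _ | n
    · simpa using h0
    have := congrArg (coeff n) h
    rw [coeff_derivative, PowerSeries.coeff_mul, Finset.sum_eq_zero fun p hp => by
      rw [ih p.1 (Nat.lt_succ_of_le (le_of_le_of_eq (Nat.le_add_right p.1 p.2) (Finset.HasAntidiagonal.mem_antidiagonal.1 hp))), map_zero, zero_mul]] at this
    simpa [Nat.cast_add_one_ne_zero] using this

theorem constantCoeff_exp_subst {a : PowerSeries ℚ} (ha : constantCoeff a = 0) :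
    constantCoeff (subst a (exp ℚ)) = 1 := by
  refine (constantCoeff_subst (HasSubst.of_constantCoeff_zero' ha) _).trans ?_
  rw [finsum_eq_single _ 0 fun d hd => ?_]
  · simp
  · rw [map_pow, show MvPowerSeries.constantCoeff a = 0 from ha, zero_pow hd, smul_zero]

theorem derivative_exp_subst {a : PowerSeries ℚ} (ha : constantCoeff a = 0) :
    derivative ℚ (subst a (exp ℚ)) = subst a (exp ℚ) * derivative ℚ a := by
  rw [derivative_subst (HasSubst.of_constantCoeff_zero' ha), derivative_exp]

/-- Uniqueness for `F' = F c`. -/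
theorem eq_exp_subst {F a : PowerSeries ℚ} (ha : constantCoeff a = 0)
    (hF : derivative ℚ F = F * derivative ℚ a) (h0 : constantCoeff F = 1) : F = subst a (exp ℚ) := by
  rw [← sub_eq_zero]
  refine eq_zero_of_derivative_eq_mul (c := derivative ℚ a) ?_ (by rw [map_sub, h0, constantCoeff_exp_subst ha, sub_self])
  rw [map_sub, hF, derivative_exp_subst ha, sub_mul]

theorem exp_subst_add {a b : PowerSeries ℚ} (ha : constantCoeff a = 0) (hb : constantCoeff b = 0) :
    subst (a + b) (exp ℚ) = subst a (exp ℚ) * subst b (exp ℚ) := by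
  refine (eq_exp_subst (by rw [map_add, ha, hb, add_zero]) ?_ ?_).symm
  · rw [Derivation.leibniz, derivative_exp_subst ha, derivative_exp_subst hb, smul_eq_mul, smul_eq_mul, map_add]
    ring
  · rw [map_mul, constantCoeff_exp_subst ha, constantCoeff_exp_subst hb, mul_one]

theorem exp_subst_zero : subst (0 : PowerSeries ℚ) (exp ℚ) = 1 :=
  (eq_exp_subst (map_zero _) (by simp) (map_one _)).symm

theorem exp_subst_sum {ι : Type*} (s : Finset ι) (a : ι → PowerSeries ℚ) (ha : ∀ i ∈ s, constantCoeff (a i) = 0) :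
    subst (∑ i ∈ s, a i) (exp ℚ) = ∏ i ∈ s, subst (a i) (exp ℚ) := by
  classical
  induction s using Finset.induction_on with
  | empty => simpa using exp_subst_zero
  | insert i s hi ih =>
    rw [Finset.sum_insert hi, Finset.prod_insert hi, exp_subst_add (ha i (Finset.mem_insert_self i s))
      (by rw [map_sum]; exact Finset.sum_eq_zero fun j hj => ha j (Finset.mem_insert_of_mem hj)),
      ih fun j hj => ha j (Finset.mem_insert_of_mem hj)]

variable {k : Type u} [Field k]

theorem coeff_logZeta {X : Scheme.{u}} (f : X ⟶ Spec (CommRingCat.of k)) (m : ℕ) :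
    coeff m (Zeta.logZeta f) = (Zeta.nPts f m : ℚ) / m := by
  rw [Zeta.logZeta, coeff_mk]

theorem constantCoeff_logZeta {X : Scheme.{u}} (f : X ⟶ Spec (CommRingCat.of k)) :
    constantCoeff (Zeta.logZeta f) = 0 := by
  rw [← coeff_zero_eq_constantCoeff_apply, coeff_logZeta, Nat.cast_zero, div_zero]

theorem constantCoeff_zetaFun {X : Scheme.{u}} (f : X ⟶ Spec (CommRingCat.of k)) :
    constantCoeff (Zeta.zetaFun f) = 1 :=
  constantCoeff_exp_subst (constantCoeff_logZeta f)

/-- Additive point counts give multiplicative zeta functions. -/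
theorem zetaFun_eq_prod {X : Scheme.{u}} (f : X ⟶ Spec (CommRingCat.of k)) {ι : Type*} (s : Finset ι)
    {Y : ι → Scheme.{u}} (g : ∀ i, Y i ⟶ Spec (CommRingCat.of k))
    (h : ∀ m, Zeta.nPts f m = ∑ i ∈ s, Zeta.nPts (g i) m) :
    Zeta.zetaFun f = ∏ i ∈ s, Zeta.zetaFun (g i) := by
  rw [Zeta.zetaFun, show Zeta.logZeta f = ∑ i ∈ s, Zeta.logZeta (g i) from ?_]
  · exact exp_subst_sum s _ fun i _ => constantCoeff_logZeta _
  ext m
  rw [map_sum, coeff_logZeta, h m, Nat.cast_sum, Finset.sum_div]
  exact Finset.sum_congr rfl fun i _ => (coeff_logZeta _ _).symm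

theorem residueFieldMap_surjective {X Y : Scheme.{u}} (g : X ⟶ Y) [IsPreimmersion g] (x : X) :
    Function.Surjective (g.residueFieldMap x).hom := by
  intro a
  obtain ⟨b, rfl⟩ := X.residue_surjective x a
  obtain ⟨c, rfl⟩ := g.stalkMap_surjective x b
  exact ⟨Y.residue (g x) c, congr($(Scheme.residue_residueFieldMap g x).hom c)⟩

/-- Immersions do not change residue degrees over the base. -/
theorem residueDegree_comp_immersion {X Y : Scheme.{u}} (g : X ⟶ Y) [IsPreimmersion g]
    (f : Y ⟶ Spec (CommRingCat.of k)) (x : X) :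
    EGA4loc.residueDegree (g ≫ f) x = EGA4loc.residueDegree f (g.base x) := by
  rw [WC97.residueDegree_eq_finrank (g ≫ f) x, WC97.residueDegree_eq_finrank f (g.base x)]
  letI a1 : Algebra k (X.residueField x) := (WC97.kStr (g ≫ f) x).toAlgebra
  letI a2 : Algebra k (Y.residueField (g.base x)) := (WC97.kStr f (g.base x)).toAlgebra
  exact (Algebra.finrank_eq_of_equiv_equiv (RingEquiv.refl k)
    (RingEquiv.ofBijective _ ⟨(g.residueFieldMap x).hom.injective, residueFieldMap_surjective g x⟩)
    (RingHom.ext fun c => (RingHom.congr_fun (WC97.kStr_comp g (g ≫ f) f rfl x) c))).symm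

/-- Subschemes partitioning the closed points: closed points of degree `e` add up. -/
theorem degCount_eq_sum [Finite k] {X : Scheme.{u}} (f : X ⟶ Spec (CommRingCat.of k))
    [LocallyOfFiniteType f] [QuasiCompact f] {ι : Type*} [Fintype ι] (Y : ι → Scheme.{u})
    (g : ∀ i, Y i ⟶ X) [∀ i, IsImmersion (g i)]
    (hpart : ∀ x : X, IsClosed ({x} : Set X) → ∃! i, x ∈ Set.range (g i).base) {e : ℕ} (he : e ≠ 0) :
    Zeta.degCount f e = ∑ i, Zeta.degCount (g i ≫ f) e := by
  simp only [Zeta.degCount]
  have := finite_degree f e he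
  have hdeg := fun i (y : Y i) => residueDegree_comp_immersion (g i) f y
  have hcl : ∀ i (y : Y i), EGA4loc.residueDegree (g i ≫ f) y = e → IsClosed ({(g i).base y} : Set X) :=
    fun i y hy => isClosed_of_residueDegree_ne_zero f _ (by rw [← hdeg i y, hy]; exact he)
  let φ : (Σ i, {y : Y i // IsClosed ({y} : Set (Y i)) ∧ EGA4loc.residueDegree (g i ≫ f) y = e}) →
      {x : X // IsClosed ({x} : Set X) ∧ EGA4loc.residueDegree f x = e} :=
    fun z => ⟨(g z.1).base z.2.1, hcl _ _ z.2.2.2, (hdeg _ _).symm.trans z.2.2.2⟩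
  have hφ : Function.Bijective φ := by
    constructor
    · rintro ⟨i, y, hy⟩ ⟨j, y', hy'⟩ h
      have h' : (g i).base y = (g j).base y' := congrArg Subtype.val h
      obtain rfl : i = j := (hpart _ (hcl i y hy.2)).unique ⟨y, rfl⟩ ⟨y', h'.symm⟩
      obtain rfl := (Scheme.Hom.isEmbedding (g i)).injective h'
      rfl
    · rintro ⟨x, hx, hxe⟩
      obtain ⟨i, ⟨y, rfl⟩, -⟩ := hpart x hx
      refine ⟨⟨i, y, ?_, (hdeg i y).trans hxe⟩, rfl⟩
      exact isClosed_of_residueDegree_ne_zero (g i ≫ f) y (by rw [hdeg i y, hxe]; exact he)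
  haveI : ∀ i, Finite {y : Y i // IsClosed ({y} : Set (Y i)) ∧ EGA4loc.residueDegree (g i ≫ f) y = e} :=
    fun i => Finite.of_injective (fun y => φ ⟨i, y⟩) fun a b h => eq_of_heq (Sigma.mk.inj_iff.1 (hφ.1 h)).2
  rw [← Nat.card_sigma, Nat.card_congr (Equiv.ofBijective φ hφ)]

/-- Subschemes partitioning the closed points: zeta functions multiply. -/
theorem zetaFun_partition [Finite k] {X : Scheme.{u}} (f : X ⟶ Spec (CommRingCat.of k))
    [LocallyOfFiniteType f] [QuasiCompact f] {ι : Type*} [Fintype ι] (Y : ι → Scheme.{u})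
    (g : ∀ i, Y i ⟶ X) [∀ i, IsImmersion (g i)]
    (hpart : ∀ x : X, IsClosed ({x} : Set X) → ∃! i, x ∈ Set.range (g i).base) :
    Zeta.zetaFun f = ∏ i, Zeta.zetaFun (g i ≫ f) := by
  refine zetaFun_eq_prod f Finset.univ _ fun m => ?_
  simp only [Zeta.nPts]
  rw [Finset.sum_comm]
  refine Finset.sum_congr rfl fun e he => ?_
  rw [degCount_eq_sum f Y g hpart (Nat.pos_of_mem_divisors he).ne', Finset.mul_sum]

end Groth.Agent.Zeta24
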