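import Groth.Agent.Zeta24.Euler
import Mathlib.AlgebraicGeometry.AffineSpace
import Mathlib.RingTheory.RootsOfUnity.PrimitiveRoots
import Mathlib.Analysis.Complex.Basic

/-!
Zeta functions of affine lines and of base changes to finite extensions.
-/

set_option autoImplicit false

universe u

open CategoryTheory AlgebraicGeometry Limits

namespace Groth.Agent.Zeta24

/-- `t d/dt` over any ring. -/
noncomputable def thetaR {R : Type*} [CommRing R] (F : PowerSeries R) : PowerSeries R :=
  PowerSeries.mk fun n => (n : R) * PowerSeries.coeff n F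

section Ring

variable {R : Type*} [CommRing R]

theorem coeff_thetaR (F : PowerSeries R) (n : ℕ) : PowerSeries.coeff n (thetaR F) = n * PowerSeries.coeff n F := by
  rw [thetaR, PowerSeries.coeff_mk]

theorem thetaR_mul (F G : PowerSeries R) : thetaR (F * G) = thetaR F * G + F * thetaR G := by
  ext n
  simp only [coeff_thetaR, map_add, PowerSeries.coeff_mul, Finset.mul_sum, ← Finset.sum_add_distrib]
  refine Finset.sum_congr rfl fun p hp => ?_
  rw [← Finset.HasAntidiagonal.mem_antidiagonal.1 hp, Nat.cast_add]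
  ring

theorem thetaR_map {S : Type*} [CommRing S] (φ : R →+* S) (F : PowerSeries R) :
    thetaR (PowerSeries.map φ F) = PowerSeries.map φ (thetaR F) := by
  ext n; simp [coeff_thetaR]

theorem thetaR_rescale (a : R) (F : PowerSeries R) :
    thetaR (PowerSeries.rescale a F) = PowerSeries.rescale a (thetaR F) := by
  ext n; simp only [coeff_thetaR, PowerSeries.coeff_rescale]; ring

theorem thetaR_prod {ι : Type*} (s : Finset ι) (u e : ι → PowerSeries R) (h : ∀ i ∈ s, thetaR (u i) = u i * e i) :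
    thetaR (∏ i ∈ s, u i) = (∏ i ∈ s, u i) * ∑ i ∈ s, e i := by
  classical
  induction s using Finset.induction_on with
  | empty => ext n; rcases eq_or_ne n 0 with rfl | hn <;> simp [coeff_thetaR, PowerSeries.coeff_one, *]
  | insert i s hi ih =>
    rw [Finset.prod_insert hi, Finset.sum_insert hi, thetaR_mul, h i (Finset.mem_insert_self i s),
      ih fun j hj => h j (Finset.mem_insert_of_mem hj)]
    ring

theorem thetaR_eq {R : Type*} [CommRing R] [IsDomain R] [CharZero R] {F G c : PowerSeries R}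
    (hc : PowerSeries.constantCoeff c = 0) (hF : thetaR F = F * c) (hG : thetaR G = G * c)
    (h0 : PowerSeries.constantCoeff F = PowerSeries.constantCoeff G) : F = G := by
  ext n
  induction n using Nat.strong_induction_on with
  | _ n ih =>
    rcases Nat.eq_zero_or_pos n with rfl | hn
    · simpa [PowerSeries.coeff_zero_eq_constantCoeff_apply] using h0
    have h1 := congrArg (PowerSeries.coeff n) hF
    have h2 := congrArg (PowerSeries.coeff n) hG
    rw [coeff_thetaR, PowerSeries.coeff_mul] at h1 h2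
    have : (n : R) * PowerSeries.coeff n F = n * PowerSeries.coeff n G := by
      rw [h1, h2]
      refine Finset.sum_congr rfl fun p hp => ?_
      rcases Nat.eq_zero_or_pos p.2 with h | h
      · rw [h, PowerSeries.coeff_zero_eq_constantCoeff_apply, hc, mul_zero, mul_zero]
      · rw [ih p.1 (by have := Finset.HasAntidiagonal.mem_antidiagonal.1 hp; omega)]
    exact mul_left_cancel₀ (Nat.cast_ne_zero.2 hn.ne') this

end Ring

theorem theta_eq_thetaR (F : PowerSeries ℚ) : theta F = thetaR F := by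
  ext n; rw [coeff_theta, coeff_thetaR]

variable {k : Type u} [Field k]

/-- Points of the affine line over `X`. -/
theorem pointCount_affineLine {X : Scheme.{u}} (f : X ⟶ Spec (CommRingCat.of k))
    (k' : Type u) [Field k'] [Algebra k k'] :
    SgaExt.pointCount ((𝔸(PUnit.{u + 1}; X) ↘ X) ≫ f) k' = SgaExt.pointCount f k' * Nat.card k' := by
  rw [SgaExt.pointCount, SgaExt.pointCount, ← Nat.card_prod]
  have eΓ : (PUnit.{u + 1} → Γ(Spec (CommRingCat.of k'), ⊤)) ≃ k' :=
    (Equiv.funUnique PUnit.{u + 1} _).trans (Scheme.ΓSpecIso (CommRingCat.of k')).commRingCatIsoToRingEquiv.toEquiv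
  let e0 : {g : Spec (CommRingCat.of k') ⟶ 𝔸(PUnit.{u + 1}; X) //
        g ≫ ((𝔸(PUnit.{u + 1}; X) ↘ X) ≫ f) = Spec.map (CommRingCat.ofHom (algebraMap k k'))} ≃
      Σ g0 : {g : Spec (CommRingCat.of k') ⟶ X // g ≫ f = Spec.map (CommRingCat.ofHom (algebraMap k k'))},
        {g : Spec (CommRingCat.of k') ⟶ 𝔸(PUnit.{u + 1}; X) // g ≫ (𝔸(PUnit.{u + 1}; X) ↘ X) = g0.1} :=
    { toFun := fun g => ⟨⟨g.1 ≫ (𝔸(PUnit.{u + 1}; X) ↘ X), (Category.assoc _ _ _).trans g.2⟩, g.1, rfl⟩
      invFun := fun z => ⟨z.2.1, by rw [← Category.assoc, z.2.2]; exact z.1.2⟩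
      left_inv := fun g => rfl
      right_inv := by rintro ⟨⟨g0, h0⟩, g, hg⟩; obtain rfl : g0 = g ≫ _ := hg.symm; rfl }
  refine Nat.card_congr (e0.trans ((Equiv.sigmaCongrRight fun g0 => ?_).trans (Equiv.sigmaEquivProd _ _)))
  letI : (Spec (CommRingCat.of k')).Over X := ⟨g0.1⟩
  exact ((Equiv.subtypeEquivRight fun g => ⟨fun h => ⟨h⟩, fun h => h.1⟩).trans
    (AffineSpace.homOverEquiv (n := PUnit.{u + 1}) (S := X) (X := Spec (CommRingCat.of k')))).trans eΓ

theorem zetaFun_affineLine [Finite k] {X : Scheme.{u}} (f : X ⟶ Spec (CommRingCat.of k))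
    [LocallyOfFiniteType f] [QuasiCompact f] :
    Zeta.zetaFun ((𝔸(PUnit.{u + 1}; X) ↘ X) ≫ f) = PowerSeries.rescale (Nat.card k : ℚ) (Zeta.zetaFun f) := by
  have hn : ∀ m, (Zeta.nPts ((𝔸(PUnit.{u + 1}; X) ↘ X) ≫ f) m : ℚ) = (Nat.card k : ℚ) ^ m * Zeta.nPts f m := by
    intro m
    rcases Nat.eq_zero_or_pos m with rfl | hm
    · simp [Zeta.nPts]
    obtain ⟨k', _, _, _, hk⟩ := exists_extension (k := k) m hm.ne'
    rw [← hk, ← (pointCount_facts _ k').2, ← (pointCount_facts f k').2, pointCount_affineLine, Nat.cast_mul,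
      Module.natCard_eq_pow_finrank (K := k) (V := k'), Nat.cast_pow, mul_comm]
  refine thetaR_eq (c := PowerSeries.mk fun m => (Zeta.nPts ((𝔸(PUnit.{u + 1}; X) ↘ X) ≫ f) m : ℚ)) ?_ ?_ ?_ ?_
  · simp [Zeta.nPts]
  · rw [← theta_eq_thetaR, theta_zetaFun]
  · rw [thetaR_rescale, ← theta_eq_thetaR, theta_zetaFun, map_mul, PowerSeries.rescale_mk]
    simp only [hn]
  · rw [constantCoeff_zetaFun, ← PowerSeries.coeff_zero_eq_constantCoeff_apply, PowerSeries.coeff_rescale,
      pow_zero, one_mul, PowerSeries.coeff_zero_eq_constantCoeff_apply, constantCoeff_zetaFun]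

/-- Points of a base change. -/
theorem pointCount_baseChange {X : Scheme.{u}} (f : X ⟶ Spec (CommRingCat.of k))
    (k' : Type u) [Field k'] [Algebra k k'] (k'' : Type u) [Field k''] [Algebra k' k''] [Algebra k k'']
    [IsScalarTower k k' k''] :
    SgaExt.pointCount (pullback.snd f (Spec.map (CommRingCat.ofHom (algebraMap k k')))) k'' =
      SgaExt.pointCount f k'' := by
  have hs : Spec.map (CommRingCat.ofHom (algebraMap k' k'')) ≫ Spec.map (CommRingCat.ofHom (algebraMap k k')) =
      Spec.map (CommRingCat.ofHom (algebraMap k k'')) := by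
    rw [← Spec.map_comp, ← CommRingCat.ofHom_comp, ← IsScalarTower.algebraMap_eq]
  refine Nat.card_congr
    { toFun := fun g => ⟨g.1 ≫ pullback.fst _ _, by rw [Category.assoc, pullback.condition, reassoc_of% g.2, hs]⟩
      invFun := fun g => ⟨pullback.lift g.1 (Spec.map (CommRingCat.ofHom (algebraMap k' k''))) (by rw [g.2, hs]),
        pullback.lift_snd _ _ _⟩
      left_inv := fun g => Subtype.ext (pullback.hom_ext (pullback.lift_fst _ _ _) ((pullback.lift_snd _ _ _).trans g.2.symm))
      right_inv := fun g => Subtype.ext (pullback.lift_fst _ _ _) }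

theorem nPts_baseChange [Finite k] {X : Scheme.{u}} (f : X ⟶ Spec (CommRingCat.of k))
    [LocallyOfFiniteType f] [QuasiCompact f] (k' : Type u) [Field k'] [Algebra k k'] [Finite k'] (m : ℕ) :
    Zeta.nPts (pullback.snd f (Spec.map (CommRingCat.ofHom (algebraMap k k')))) m =
      Zeta.nPts f (Module.finrank k k' * m) := by
  rcases Nat.eq_zero_or_pos m with rfl | hm
  · simp [Zeta.nPts]
  obtain ⟨k'', _, _, _, hk⟩ := exists_extension (k := k') m hm.ne'
  let : Algebra k k'' := ((algebraMap k' k'').comp (algebraMap k k')).toAlgebra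
  have : IsScalarTower k k' k'' := IsScalarTower.of_algebraMap_eq' rfl
  rw [← hk, ← (pointCount_facts _ k'').2, pointCount_baseChange, (pointCount_facts f k'').2,
    Module.finrank_mul_finrank]

theorem sum_pow_primitive {r : ℕ} {ξ : ℂ} (hξ : IsPrimitiveRoot ξ r) (m : ℕ) :
    ∑ i ∈ Finset.range r, (ξ ^ i) ^ m = if r ∣ m then (r : ℂ) else 0 := by
  simp only [← pow_mul, mul_comm _ m]
  simp only [pow_mul]
  split_ifs with h
  · simp [(hξ.pow_eq_one_iff_dvd m).2 h]
  · have h1 : ξ ^ m - 1 ≠ 0 := sub_ne_zero.2 fun e => h ((hξ.pow_eq_one_iff_dvd m).1 e)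
    refine (mul_eq_zero.1 ?_).resolve_left h1
    rw [mul_geom_sum, ← pow_mul, mul_comm, pow_mul, hξ.pow_eq_one, one_pow, sub_self]

theorem zetaFun_baseChange [Finite k] {X : Scheme.{u}} (f : X ⟶ Spec (CommRingCat.of k))
    [LocallyOfFiniteType f] [QuasiCompact f] (k' : Type u) [Field k'] [Algebra k k'] [Finite k'] (ξ : ℂ)
    (hξ : IsPrimitiveRoot ξ (Module.finrank k k')) :
    PowerSeries.subst ((PowerSeries.X : PowerSeries ℂ) ^ Module.finrank k k')
        (PowerSeries.map (algebraMap ℚ ℂ) (Zeta.zetaFun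
          (pullback.snd f (Spec.map (CommRingCat.ofHom (algebraMap k k')))))) =
      ∏ i ∈ Finset.range (Module.finrank k k'),
        PowerSeries.rescale (ξ ^ i) (PowerSeries.map (algebraMap ℚ ℂ) (Zeta.zetaFun f)) := by
  set r := Module.finrank k k' with hr
  have hr0 : r ≠ 0 := by
    have : Module.Finite k k' := Module.Finite.of_finite
    exact Module.finrank_pos.ne'
  set N : ℕ → ℂ := fun m => (Zeta.nPts f m : ℂ)
  have hz : ∀ {k₁ : Type u} [Field k₁] {Y : Scheme.{u}} (g : Y ⟶ Spec (CommRingCat.of k₁)),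
      thetaR (PowerSeries.map (algebraMap ℚ ℂ) (Zeta.zetaFun g)) =
        PowerSeries.map (algebraMap ℚ ℂ) (Zeta.zetaFun g) * PowerSeries.mk fun m => (Zeta.nPts g m : ℂ) := by
    intro k₁ _ Y g
    rw [thetaR_map, ← theta_eq_thetaR, theta_zetaFun, map_mul]
    congr 1
  refine thetaR_eq (c := PowerSeries.mk fun m => if r ∣ m then (r : ℂ) * N m else 0) ?_ ?_ ?_ ?_
  · simp [N, Zeta.nPts]
  · have hsub : ∀ F : PowerSeries ℂ, thetaR (PowerSeries.subst ((PowerSeries.X : PowerSeries ℂ) ^ r) F) =
        PowerSeries.subst ((PowerSeries.X : PowerSeries ℂ) ^ r) ((r : ℂ) • thetaR F) := by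
      intro F
      ext m
      rw [coeff_thetaR, PowerSeries.coeff_subst_X_pow hr0, PowerSeries.coeff_subst_X_pow hr0]
      split_ifs with h
      · obtain ⟨c, rfl⟩ := h
        rw [Nat.mul_div_cancel_left c (Nat.pos_of_ne_zero hr0)]
        simp [coeff_thetaR]; ring
      · simp
    rw [hsub, hz, ← mul_smul_comm, PowerSeries.subst_mul (PowerSeries.HasSubst.X_pow hr0)]
    congr 1
    ext m
    rw [PowerSeries.coeff_subst_X_pow hr0, PowerSeries.coeff_mk]
    split_ifs with h
    · obtain ⟨c, rfl⟩ := h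
      rw [Nat.mul_div_cancel_left c (Nat.pos_of_ne_zero hr0)]
      simp [N, nPts_baseChange f k', ← hr]
    · simp
  · rw [thetaR_prod _ _ (fun i => PowerSeries.rescale (ξ ^ i) (PowerSeries.mk N)) fun i _ => by
      rw [thetaR_rescale, hz, map_mul]]
    congr 1
    ext m
    rw [map_sum, PowerSeries.coeff_mk]
    simp only [PowerSeries.coeff_rescale, PowerSeries.coeff_mk, ← Finset.sum_mul, sum_pow_primitive hξ]
    split_ifs <;> simp
  · rw [← PowerSeries.coeff_zero_eq_constantCoeff_apply, PowerSeries.coeff_subst_X_pow hr0,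
      if_pos (dvd_zero r), Nat.zero_div, PowerSeries.coeff_zero_eq_constantCoeff_apply,
      map_prod, ← PowerSeries.coeff_zero_eq_constantCoeff_apply, PowerSeries.coeff_map,
      PowerSeries.coeff_zero_eq_constantCoeff_apply, constantCoeff_zetaFun, map_one]
    refine (Finset.prod_eq_one fun i _ => ?_).symm
    rw [← PowerSeries.coeff_zero_eq_constantCoeff_apply, PowerSeries.coeff_rescale, pow_zero, one_mul,
      PowerSeries.coeff_map, PowerSeries.coeff_zero_eq_constantCoeff_apply, constantCoeff_zetaFun, map_one]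

end Groth.Agent.Zeta24
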