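import Mathlib.FieldTheory.ChevalleyWarning
import Mathlib.RingTheory.MvPolynomial.Expand
import Mathlib.RingTheory.MvPolynomial.Homogeneous

/-!
The Hasse coefficient of a hypersurface of degree equal to the number of variables.
-/

set_option autoImplicit false

open MvPolynomial

namespace Groth.Agent.Zeta24

variable {k : Type*} [Field k] {σ : Type*} [Fintype σ] [DecidableEq σ]

/-- The exponent `(x₀ ⋯ x_n)^a`. -/
noncomputable def diag (a : ℕ) : σ →₀ ℕ := Finsupp.equivFunOnFinite.symm fun _ => a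

theorem diag_apply (a : ℕ) (i : σ) : diag a i = a := rfl

theorem sum_of_homogeneous {φ : MvPolynomial σ k} {d : ℕ} (h : φ.IsHomogeneous d) {m : σ →₀ ℕ}
    (hm : coeff m φ ≠ 0) : ∑ i, m i = d := by
  rw [← Finsupp.degree_eq_sum, Finsupp.degree_eq_weight_one]
  exact h hm

theorem eq_diag_of_ge {m : σ →₀ ℕ} {a : ℕ} (hsum : ∑ i, m i = Fintype.card σ * a) (h : ∀ i, a ≤ m i) :
    m = diag a := by
  ext i
  by_contra hne
  have hlt : ∑ _i : σ, a < ∑ i, m i :=
    Finset.sum_lt_sum (fun i _ => h i) ⟨i, Finset.mem_univ i, lt_of_le_of_ne (h i) fun e => hne e.symm⟩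
  rw [hsum] at hlt
  simp at hlt

theorem sum_eval_of_homogeneous [Fintype k] (φ : MvPolynomial σ k)
    (hφ : φ.IsHomogeneous (Fintype.card σ * (Fintype.card k - 1))) :
    ∑ a : σ → k, eval a φ = (-1) ^ Fintype.card σ * coeff (diag (Fintype.card k - 1)) φ := by
  classical
  set q := Fintype.card k
  have hq : 0 < q - 1 := Nat.sub_pos_of_lt Fintype.one_lt_card
  have h1 : ∀ i : ℕ, ∑ x : k, x ^ i = if i ≠ 0 ∧ q - 1 ∣ i then -1 else 0 := fun i => by
    rcases Nat.eq_zero_or_pos i with rfl | hi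
    · simp
    rw [← Finset.sum_sdiff (Finset.subset_univ {(0 : k)}), Finset.sum_singleton, zero_pow hi.ne', add_zero]
    have : ∑ x ∈ Finset.univ \ {(0 : k)}, x ^ i = ∑ x : kˣ, (x : k) ^ i := by
      symm
      refine Finset.sum_bij (fun x _ => (x : k)) ?_ ?_ ?_ ?_
      · simp
      · exact fun a _ b _ h => Units.ext h
      · intro b hb
        exact ⟨Units.mk0 b (by simpa using hb), Finset.mem_univ _, rfl⟩
      · intro a _; rfl
    rw [this, FiniteField.sum_pow_units]
    simp [hi.ne', q]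
  have h2 : ∀ m : σ →₀ ℕ, ∑ a : σ → k, ∏ i, a i ^ m i = ∏ i, ∑ x : k, x ^ m i :=
    fun m => (Fintype.prod_sum fun i x => x ^ m i).symm
  calc ∑ a : σ → k, eval a φ
      = ∑ a : σ → k, ∑ m ∈ φ.support, coeff m φ * ∏ i, a i ^ m i := by simp only [eval_eq']
    _ = ∑ m ∈ φ.support, coeff m φ * ∏ i, ∑ x : k, x ^ m i := by
        rw [Finset.sum_comm]; exact Finset.sum_congr rfl fun m _ => by rw [← Finset.mul_sum, h2]
    _ = _ := by
        rw [Finset.sum_eq_single (diag (q - 1))]
        · have : ∀ i : σ, ∑ x : k, x ^ (diag (q - 1) i) = -1 := fun i => by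
            rw [h1, diag_apply, if_pos ⟨hq.ne', dvd_rfl⟩]
          rw [Finset.prod_congr rfl fun i _ => this i, Finset.prod_const, Finset.card_univ, mul_comm]
        · intro m hm hne
          by_contra hc
          refine hne (eq_diag_of_ge (sum_of_homogeneous hφ (mem_support_iff.1 hm)) fun i => ?_)
          have := Finset.prod_ne_zero_iff.1 (mul_ne_zero_iff.1 hc).2 i (Finset.mem_univ i)
          rw [h1] at this
          split_ifs at this with h
          · exact Nat.le_of_dvd (Nat.pos_of_ne_zero h.1) h.2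
          · exact absurd rfl this
        · intro h; rw [notMem_support_iff.1 h, zero_mul]

theorem char_dvd_zeros_iff [Fintype k] (p : ℕ) [CharP k p] [Nonempty σ] (f : MvPolynomial σ k)
    (hf : f.IsHomogeneous (Fintype.card σ)) :
    p ∣ Nat.card {a : σ → k // eval a f = 0} ↔
      coeff (diag (Fintype.card k - 1)) (f ^ (Fintype.card k - 1)) = 0 := by
  classical
  have hq : Fintype.card k - 1 ≠ 0 := (Nat.sub_pos_of_lt Fintype.one_lt_card).ne'
  rw [← CharP.cast_eq_zero_iff k p, Nat.card_eq_fintype_card, Fintype.card_subtype]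
  have h : ∀ a : σ → k, (if eval a f = 0 then (1 : k) else 0) = 1 - eval a (f ^ (Fintype.card k - 1)) := fun a => by
    rw [map_pow]
    split_ifs with ha
    · rw [ha, zero_pow hq, sub_zero]
    · rw [FiniteField.pow_card_sub_one_eq_one _ ha, sub_self]
  rw [← Finset.sum_boole, Finset.sum_congr rfl fun a _ => h a, Finset.sum_sub_distrib, Finset.sum_const,
    nsmul_one, Finset.card_univ, Fintype.card_fun, Nat.cast_pow, FiniteField.cast_card_eq_zero,
    zero_pow Fintype.card_ne_zero, zero_sub, neg_eq_zero, sum_eval_of_homogeneous _ (hf.pow _)]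
  simp

/-- `c_{j+1} = c_1 c_j^p`. -/
theorem coeff_pow_succ (p : ℕ) [Fact p.Prime] [CharP k p] (f : MvPolynomial σ k)
    (hf : f.IsHomogeneous (Fintype.card σ)) (j : ℕ) :
    coeff (diag (p ^ (j + 1) - 1)) (f ^ (p ^ (j + 1) - 1)) =
      coeff (diag (p - 1)) (f ^ (p - 1)) * coeff (diag (p ^ j - 1)) (f ^ (p ^ j - 1)) ^ p := by
  classical
  have hp := (Fact.out : p.Prime).pos
  have hj : 1 ≤ p ^ j := Nat.one_le_pow _ _ hp
  have hj1 : 1 ≤ p ^ (j + 1) := Nat.one_le_pow _ _ hp
  have hsucc : p ^ (j + 1) = p ^ j * p := pow_succ p j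
  have hexp : p ^ (j + 1) - 1 = (p - 1) + (p ^ j - 1) * p := by
    rw [Nat.sub_mul, one_mul, ← hsucc]
    have : p ≤ p ^ (j + 1) := by rw [hsucc]; exact Nat.le_mul_of_pos_left p (by omega)
    omega
  set g := f ^ (p ^ j - 1) with hg
  have hG : g ^ p = expand p (map (frobenius k p) g) := by
    rw [← map_expand]; exact (map_frobenius_expand (p := p)).symm
  rw [hexp, pow_add, pow_mul, ← hg, hG, coeff_mul]
  rw [Finset.sum_eq_single (diag (p - 1), diag (σ := σ) ((p ^ j - 1) * p))]
  · congr 1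
    have : diag ((p ^ j - 1) * p) = p • (diag (p ^ j - 1) : σ →₀ ℕ) := by
      ext i; simp [diag_apply, mul_comm]
    rw [this, coeff_expand_smul p hp.ne', coeff_map, frobenius_def]
  · intro x hx hne
    by_contra hc
    obtain ⟨h1, h2⟩ := mul_ne_zero_iff.1 hc
    have hx' : x.1 + x.2 = diag (p - 1 + (p ^ j - 1) * p) := Finset.HasAntidiagonal.mem_antidiagonal.1 hx
    have hge : ∀ i, p - 1 ≤ x.1 i := fun i => by
      have hd : p ∣ x.2 i := by
        by_contra hd
        exact h2 (coeff_expand_of_not_dvd _ hd)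
      have := DFunLike.congr_fun hx' i
      rw [Finsupp.add_apply, diag_apply] at this
      obtain ⟨l, hl⟩ := hd
      have h : p ∣ x.1 i + 1 := (Nat.dvd_add_left (dvd_mul_right p l)).1 (by
        rw [show x.1 i + 1 + p * l = (p ^ j - 1) * p + p from by omega]
        exact dvd_add (dvd_mul_left _ _) dvd_rfl)
      have := Nat.le_of_dvd (by omega) h
      omega
    have e1 : x.1 = diag (p - 1) := eq_diag_of_ge (sum_of_homogeneous (hf.pow _) h1) hge
    refine hne (Prod.ext e1 ?_)
    ext i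
    have := DFunLike.congr_fun hx' i
    rw [e1, Finsupp.add_apply, diag_apply, diag_apply] at this
    simp only [diag_apply]
    omega
  · intro h
    exact absurd (Finset.HasAntidiagonal.mem_antidiagonal.2 (Finsupp.ext fun i => by simp [diag_apply])) h

theorem coeff_pow_ne_zero_iff (p : ℕ) [Fact p.Prime] [CharP k p] (f : MvPolynomial σ k)
    (hf : f.IsHomogeneous (Fintype.card σ)) {e : ℕ} (he : e ≠ 0) :
    coeff (diag (p ^ e - 1)) (f ^ (p ^ e - 1)) ≠ 0 ↔ coeff (diag (p - 1)) (f ^ (p - 1)) ≠ 0 := by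
  induction e with
  | zero => exact absurd rfl he
  | succ j ih =>
    rw [coeff_pow_succ p f hf, mul_ne_zero_iff, pow_ne_zero_iff (Fact.out : p.Prime).ne_zero]
    refine ⟨And.left, fun h => ⟨h, ?_⟩⟩
    rcases eq_or_ne j 0 with rfl | hj
    · simp [show (diag 0 : σ →₀ ℕ) = 0 from Finsupp.ext fun i => rfl]
    · exact (ih hj).2 h

end Groth.Agent.Zeta24
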