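import Groth.Prelude.Def_FinFr
import Mathlib.AlgebraicGeometry.Morphisms.FormallyUnramified
import Mathlib.RingTheory.Unramified.Field
import Mathlib.RingTheory.Etale.Field

/-!
The fixed scheme of the Frobenius of a scheme over a finite field.
-/

set_option autoImplicit false
universe u
open CategoryTheory CategoryTheory.Limits AlgebraicGeometry TopologicalSpace

namespace Groth.Agent.Zeta24

variable {k : Type u} [Field k] [Finite k]

/-- An algebra generated up to unramified extension by elements fixed by `x ↦ x^q`, `q = 0`, is unramified. -/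
theorem formallyUnramified_of_pow {B A R : Type u} [CommRing B] [CommRing A] [CommRing R] [Algebra B A] [Algebra B R]
    [Algebra A R] [IsScalarTower B A R] [Algebra.FormallyUnramified A R] (q : ℕ) (hq : (q : R) = 0)
    (h : ∀ a : A, algebraMap A R a ^ q = algebraMap A R a) :
    Algebra.FormallyUnramified B R := by
  let D := KaehlerDifferential.D B R
  have hA : ∀ a : A, D (algebraMap A R a) = 0 := fun a => by
    rw [← h a, Derivation.leibniz_pow, ← Nat.cast_smul_eq_nsmul R, hq, zero_smul]
  let D' : Derivation A R (KaehlerDifferential B R) :=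
    { toLinearMap :=
        { toFun := D
          map_add' := map_add D
          map_smul' := fun a r => by
            rw [RingHom.id_apply, Algebra.smul_def, Derivation.leibniz, hA a, smul_zero, add_zero]
            exact algebraMap_smul R a (D r) }
      map_one_eq_zero' := D.map_one_eq_zero
      leibniz' := D.leibniz }
  have hD : ∀ r, D r = 0 := fun r => by
    have := D'.liftKaehlerDifferential_comp_D r
    rw [Subsingleton.elim (KaehlerDifferential.D A R r) 0, map_zero] at this
    exact this.symm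
  refine ⟨subsingleton_of_forall_eq 0 fun x => ?_⟩
  have hx : x ∈ Submodule.span R (Set.range D) := by rw [KaehlerDifferential.span_range_derivation]; trivial
  exact (Submodule.span_le.2 (by rintro _ ⟨r, rfl⟩; exact hD r) : _ ≤ (⊥ : Submodule R _)) hx

theorem formallyUnramified_specι {K : Type u} [Field K] [Algebra k K] [Algebra.IsAlgebraic k K] :
    FormallyUnramified (FinFr.specι k K) := by
  haveI : Algebra.IsSeparable k K := inferInstance
  haveI : Algebra.FormallyEtale k K := Algebra.FormallyEtale.of_isSeparable k K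
  rw [FinFr.specι, HasRingHomProperty.Spec_iff (P := @FormallyUnramified)]
  exact RingHom.formallyUnramified_algebraMap.2 (inferInstanceAs (Algebra.FormallyUnramified k K))

theorem cast_card_section {Z : Scheme.{u}} (g : Z ⟶ Spec (CommRingCat.of k)) (V : Z.Opens) :
    (Nat.card k : Γ(Z, V)) = 0 := by
  haveI := Fintype.ofFinite k
  have e : Γ(Spec (CommRingCat.of k), ⊤) ≅ CommRingCat.of k := Scheme.ΓSpecIso (CommRingCat.of k)
  rw [← map_natCast ((e.inv ≫ g.appLE ⊤ V le_top).hom : k →+* Γ(Z, V)), Nat.card_eq_fintype_card,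
    FiniteField.cast_card_eq_zero, map_zero]

/-- A scheme mapping unramifiedly to `X` and fixed by the `q`-Frobenius is unramified over `𝔽_q`. -/
theorem formallyUnramified_of_frob {X Z : Scheme.{u}} (f : X ⟶ Spec (CommRingCat.of k)) (g : Z ⟶ X)
    [FormallyUnramified g] (FX : X ⟶ X) (hle : ∀ U : X.Opens, U ≤ FX ⁻¹ᵁ U)
    (hFapp : ∀ (U : X.Opens) (s : Γ(X, U)), (FX.appLE U U (hle U)).hom s = s ^ Nat.card k)
    (hg : g ≫ FX = g) : FormallyUnramified (g ≫ f) := by
  let I := {W : Z.affineOpens × X.affineOpens // W.1.1 ≤ g ⁻¹ᵁ W.2.1}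
  refine HasRingHomProperty.of_iSup_eq_top (P := @FormallyUnramified) (fun i : I => i.1.1) ?_ fun i => ?_
  · refine eq_top_iff.2 fun z _ => ?_
    obtain ⟨U, hU, hzU, -⟩ := exists_isAffineOpen_mem_and_subset (x := g z) (U := ⊤) trivial
    obtain ⟨V, hV, hzV, hVU⟩ := exists_isAffineOpen_mem_and_subset (x := z) (U := g ⁻¹ᵁ U) hzU
    exact Opens.mem_iSup.2 ⟨⟨(⟨V, hV⟩, ⟨U, hU⟩), hVU⟩, hzV⟩
  obtain ⟨⟨⟨V, hV⟩, ⟨U, hU⟩⟩, hVU⟩ := i
  have h1 := g.formallyUnramified_appLE hU hV hVU
  have hc : ((g ≫ f).appLE ⊤ V le_top) = f.appLE ⊤ U le_top ≫ g.appLE U V hVU :=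
    (Scheme.Hom.appLE_comp_appLE g f ⊤ U V le_top hVU).symm
  show ((g ≫ f).appLE ⊤ V le_top).hom.FormallyUnramified
  rw [hc]
  let : Algebra Γ(Spec (CommRingCat.of k), ⊤) Γ(X, U) := (f.appLE ⊤ U le_top).hom.toAlgebra
  let : Algebra Γ(Spec (CommRingCat.of k), ⊤) Γ(Z, V) := (f.appLE ⊤ U le_top ≫ g.appLE U V hVU).hom.toAlgebra
  let : Algebra Γ(X, U) Γ(Z, V) := (g.appLE U V hVU).hom.toAlgebra
  have : IsScalarTower Γ(Spec (CommRingCat.of k), ⊤) Γ(X, U) Γ(Z, V) := IsScalarTower.of_algebraMap_eq' rfl
  have : Algebra.FormallyUnramified Γ(X, U) Γ(Z, V) := RingHom.formallyUnramified_algebraMap.1 h1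
  refine RingHom.formallyUnramified_algebraMap.2
    (formallyUnramified_of_pow (A := Γ(X, U)) (Nat.card k) (cast_card_section (g ≫ f) V) fun a => ?_)
  have h2 : FX.appLE U U (hle U) ≫ g.appLE U V hVU = g.appLE U V hVU := by
    rw [Scheme.Hom.appLE_comp_appLE]
    congr 1
  have h3 := congrArg (fun m => (CommRingCat.Hom.hom m) a) h2
  simp only [CommRingCat.hom_comp, RingHom.comp_apply, hFapp, map_pow] at h3
  exact h3

theorem isReduced_and_finite_of_unramified {K : Type u} [Field K] {Z : Scheme.{u}} (s : Z ⟶ Spec (CommRingCat.of K))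
    [LocallyOfFiniteType s] [FormallyUnramified s] :
    IsReduced Z ∧ ((CompactSpace Z) → Finite Z) := by
  have key : ∀ (R : CommRingCat.{u}) (j : Spec R ⟶ Z) (_ : IsOpenImmersion j), _root_.IsReduced R ∧ Finite (PrimeSpectrum R) := by
    intro R j hj
    haveI := hj
    obtain ⟨φ, hφ⟩ := Spec.map_surjective (j ≫ s)
    have hu : φ.hom.FormallyUnramified := by
      rw [← HasRingHomProperty.Spec_iff (P := @FormallyUnramified), hφ]
      exact MorphismProperty.comp_mem _ _ _ inferInstance inferInstance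
    have hf : φ.hom.FiniteType := by
      rw [← HasRingHomProperty.Spec_iff (P := @LocallyOfFiniteType), hφ]; infer_instance
    algebraize [φ.hom]
    haveI := Algebra.FormallyUnramified.isReduced_of_field K R
    haveI := Algebra.FormallyUnramified.finite_of_free K R
    haveI : IsArtinianRing R := IsArtinianRing.of_finite K R
    exact ⟨inferInstance, inferInstance⟩
  constructor
  · have : ∀ i, IsReduced (Z.affineCover.X i) := fun i => by
      obtain ⟨h, -⟩ := key _ (Z.affineCover.f i) (Z.affineCover.map_prop i)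
      haveI := h
      exact inferInstanceAs (IsReduced (Spec _))
    exact IsReduced.of_openCover _ Z.affineCover
  · intro _
    let 𝒰 := Z.affineCover.finiteSubcover
    haveI : ∀ i, Finite ↥(𝒰.X i) := fun i => (key _ (Z.affineCover.f _) (Z.affineCover.map_prop _)).2
    exact Finite.of_surjective (fun p : Σ i, ↥(𝒰.X i) => 𝒰.f p.1 p.2) fun z => by
      obtain ⟨i, y, hy⟩ := 𝒰.exists_eq z
      exact ⟨⟨i, y⟩, hy⟩

theorem fixScheme_frob {X : Scheme.{u}} (f : X ⟶ Spec (CommRingCat.of k)) [LocallyOfFiniteType f]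
    {K : Type u} [Field K] [Algebra k K] [Algebra.IsAlgebraic k K]
    (FX : X ⟶ X) (hle : ∀ U : X.Opens, U ≤ FX ⁻¹ᵁ U)
    (hFapp : ∀ (U : X.Opens) (s : Γ(X, U)), (FX.appLE U U (hle U)).hom s = s ^ Nat.card k)
    (F : FinFr.ext K f ⟶ FinFr.ext K f) (hF1 : F ≫ FinFr.extπ K f = FinFr.extπ K f ≫ FX)
    (hF2 : F ≫ FinFr.extStr K f = FinFr.extStr K f) :
    IsReduced (FinFr.fixScheme (FinFr.extStr K f) F hF2) ∧
      (QuasiCompact f → Finite ↥(FinFr.fixScheme (FinFr.extStr K f) F hF2)) := by
  let gr : FinFr.ext K f ⟶ pullback (FinFr.extStr K f) (FinFr.extStr K f) :=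
    pullback.lift (𝟙 _) F (by rw [hF2, Category.id_comp])
  let dg : FinFr.ext K f ⟶ pullback (FinFr.extStr K f) (FinFr.extStr K f) := pullback.lift (𝟙 _) (𝟙 _) rfl
  let h : FinFr.fixScheme (FinFr.extStr K f) F hF2 ⟶ FinFr.ext K f := pullback.fst gr dg
  haveI : IsImmersion dg := inferInstanceAs (IsImmersion (pullback.diagonal (FinFr.extStr K f)))
  haveI : IsImmersion h := inferInstanceAs (IsImmersion (pullback.fst gr dg))
  have hh : h ≫ F = h := by
    have e1 := pullback.condition (f := gr) (g := dg)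
    have a := congrArg (· ≫ pullback.fst _ _) e1
    have b := congrArg (· ≫ pullback.snd _ _) e1
    simp only [Category.assoc, gr, dg, pullback.lift_fst, pullback.lift_snd, Category.comp_id] at a b
    exact b.trans a.symm
  have hgX : (h ≫ FinFr.extπ K f) ≫ FX = h ≫ FinFr.extπ K f := by
    rw [Category.assoc, ← hF1, ← Category.assoc, hh]
  haveI : FormallyUnramified (FinFr.extπ K f) :=
    MorphismProperty.pullback_fst (P := @FormallyUnramified) _ _ formallyUnramified_specι
  haveI : FormallyUnramified (h ≫ FinFr.extπ K f) := MorphismProperty.comp_mem _ _ _ inferInstance inferInstance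
  have h1 := formallyUnramified_of_frob f (h ≫ FinFr.extπ K f) FX hle hFapp hgX
  rw [Category.assoc, pullback.condition, ← Category.assoc] at h1
  haveI := h1
  haveI : FormallyUnramified (h ≫ FinFr.extStr K f) := FormallyUnramified.of_comp _ (FinFr.specι k K)
  haveI : LocallyOfFiniteType (h ≫ FinFr.extStr K f) := inferInstance
  obtain ⟨hr, hfin⟩ := isReduced_and_finite_of_unramified (h ≫ FinFr.extStr K f)
  refine ⟨hr, fun hqc => hfin ?_⟩
  haveI := LocallyOfFiniteType.isLocallyNoetherian (FinFr.extStr K f)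
  haveI : CompactSpace ↥(FinFr.ext K f) := QuasiCompact.compactSpace_of_compactSpace (FinFr.extStr K f)
  haveI : IsNoetherian (FinFr.ext K f) := {}
  exact ⟨h.isEmbedding.isInducing.isCompact_iff.2 (NoetherianSpace.isCompact _)⟩

end Groth.Agent.Zeta24
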