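import Groth.Agent.VarGal.Components
import Groth.Agent.CrvFF30.Count
import Groth.Agent.WC97.Points
import Mathlib.AlgebraicGeometry.AlgClosed.Basic
import Mathlib.FieldTheory.Perfect

/-!
Fibres of `X_{k̄} → X` and Galois invariant zero cycles.
-/

set_option autoImplicit false
set_option linter.style.haveILetI false

universe u

open CategoryTheory CategoryTheory.Limits AlgebraicGeometry

namespace Groth.Agent.Zeta24

variable {k : Type u} [Field k] {X : Scheme.{u}} (f : X ⟶ Spec (CommRingCat.of k))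

section Galois

variable {f}
variable {K : Type u} [Field K] [Algebra k K]
  (τ : (K ≃ₐ[k] K) →
    (pullback f (Spec.map (CommRingCat.ofHom (algebraMap k K))) ⟶
      pullback f (Spec.map (CommRingCat.ofHom (algebraMap k K)))))
  (hτ1 : ∀ σ, τ σ ≫ pullback.fst f _ = pullback.fst f _)
  (hτ2 : ∀ σ, τ σ ≫ pullback.snd f (Spec.map (CommRingCat.ofHom (algebraMap k K))) =
      pullback.snd f _ ≫ Spec.map (CommRingCat.ofHom (σ : K →+* K)))

include hτ1 hτ2

theorem eq_galAct (σ : K ≃ₐ[k] K) :
    letI : X.Over (Spec (CommRingCat.of k)) := ⟨f⟩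
    τ σ = Curv2.galAct k X K σ := by
  letI : X.Over (Spec (CommRingCat.of k)) := ⟨f⟩
  apply pullback.hom_ext
  · exact (hτ1 σ).trans (VarGal.galAct_fst (X := X) (K := K) σ).symm
  · exact (hτ2 σ).trans (VarGal.galAct_snd (X := X) (K := K) σ).symm

/-- Galois orbits are the fibres. -/
theorem fibre_iff_orbit [Normal k K] (x y : ↑(pullback f (Spec.map (CommRingCat.ofHom (algebraMap k K))))) :
    (pullback.fst f (Spec.map (CommRingCat.ofHom (algebraMap k K)))).base x =
        (pullback.fst f (Spec.map (CommRingCat.ofHom (algebraMap k K)))).base y ↔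
      ∃ σ, (τ σ).base x = y := by
  letI : X.Over (Spec (CommRingCat.of k)) := ⟨f⟩
  constructor
  · intro h
    obtain ⟨σ, hσ⟩ := VarGal.exists_galAct_apply_eq (X := X) (K := K) (z := x) (z' := y) h
    exact ⟨σ, by rw [eq_galAct τ hτ1 hτ2 σ]; exact hσ⟩
  · rintro ⟨σ, rfl⟩
    rw [eq_galAct τ hτ1 hτ2 σ]
    exact (VarGal.fst_galAct (X := X) (K := K) σ x).symm

end Galois

variable [LocallyOfFiniteType f]

local notation "kbar" => AlgebraicClosure k
local notation "π" => pullback.fst f (Spec.map (CommRingCat.ofHom (algebraMap k kbar)))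

theorem finite_residueField_of_isClosed (x : X) (hx : IsClosed ({x} : Set X)) :
    letI := (WC97.kStr f x).toAlgebra; Module.Finite k (X.residueField x) := by
  letI := (WC97.kStr f x).toAlgebra
  haveI : IsFinite (X.fromSpecResidueField x ≫ f) := by
    rw [isClosed_singleton_iff_isClosedImmersion] at hx
    rw [isFinite_iff_locallyOfFiniteType_of_jacobsonSpace]
    infer_instance
  have h : IsFinite (Spec.map (CommRingCat.ofHom (WC97.kStr f x))) := by
    rw [WC97.kStr_spec]; infer_instance
  exact RingHom.finite_algebraMap.1 ((IsFinite.SpecMap_iff _).1 h)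

/-- The image of a closed point is closed. -/
theorem isClosed_fst (z : ↑(pullback f (Spec.map (CommRingCat.ofHom (algebraMap k kbar)))))
    (hz : IsClosed ({z} : Set _)) : IsClosed ({π z} : Set X) := by
  letI : X.Over (Spec (CommRingCat.of k)) := ⟨f⟩
  rw [← Set.image_singleton]
  exact (VarGal.isClosedMap_fst (X := X) (K := kbar)) _ hz

/-- Points over a closed point are closed. -/
theorem isClosed_of_fst (z : ↑(pullback f (Spec.map (CommRingCat.ofHom (algebraMap k kbar)))))
    (hz : IsClosed ({π z} : Set X)) : IsClosed ({z} : Set _) := by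
  letI : X.Over (Spec (CommRingCat.of k)) := ⟨f⟩
  haveI := LocallyOfFiniteType.jacobsonSpace (pullback.snd f (Spec.map (CommRingCat.ofHom (algebraMap k kbar))))
  obtain ⟨z', hz', hz'c⟩ := nonempty_inter_closedPoints (X := ↑(pullback f (Spec.map (CommRingCat.ofHom (algebraMap k kbar)))))
    (Z := (π).base ⁻¹' {π z}) ⟨z, rfl⟩ (hz.preimage (π).continuous).isLocallyClosed
  obtain ⟨σ, hσ⟩ := VarGal.exists_galAct_apply_eq (X := X) (K := kbar) (z := z') (z' := z) hz'
  rw [← hσ]
  rw [← Set.image_singleton]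
  exact (Curv2.galAct k X kbar σ).homeomorph.isClosedMap _ (mem_closedPoints_iff.1 hz'c)

/-- The fibre over a closed point: as many points as the residue degree. -/
theorem card_fibre_closed [PerfectField k] (x : X) (hx : IsClosed ({x} : Set X)) :
    Finite ↥((π).base ⁻¹' {x}) ∧ Nat.card ↥((π).base ⁻¹' {x}) = EGA4loc.residueDegree f x := by
  let P := pullback f (Spec.map (CommRingCat.ofHom (algebraMap k kbar)))
  let sndP : P ⟶ Spec (CommRingCat.of kbar) := pullback.snd f (Spec.map (CommRingCat.ofHom (algebraMap k kbar)))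
  letI := (WC97.kStr f x).toAlgebra
  haveI : Module.Finite k (X.residueField x) := finite_residueField_of_isClosed f x hx
  let E := { φ : X.residueField x ⟶ CommRingCat.of kbar // φ.hom.comp (WC97.kStr f x) = algebraMap k kbar }
  have eE : E ≃ (X.residueField x →ₐ[k] kbar) :=
    { toFun := fun φ => { φ.1.hom with commutes' := fun r => RingHom.congr_fun φ.2 r }
      invFun := fun a => ⟨CommRingCat.ofHom a.toRingHom, RingHom.ext a.commutes⟩
      left_inv := fun _ => rfl
      right_inv := fun _ => rfl }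
  let e1 : {p : Spec (CommRingCat.of kbar) ⟶ P // p ≫ sndP = 𝟙 _} ≃
      {g : Spec (CommRingCat.of kbar) ⟶ X // g ≫ f = Spec.map (CommRingCat.ofHom (algebraMap k kbar))} :=
    { toFun := fun p => ⟨p.1 ≫ π, by rw [Category.assoc, pullback.condition, reassoc_of% p.2]⟩
      invFun := fun g => ⟨pullback.lift g.1 (𝟙 _) (by rw [g.2, Category.id_comp]), pullback.lift_snd _ _ _⟩
      left_inv := fun p => Subtype.ext (pullback.hom_ext (pullback.lift_fst _ _ _) ((pullback.lift_snd _ _ _).trans p.2.symm))
      right_inv := fun g => Subtype.ext (pullback.lift_fst _ _ _) }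
  let eC : closedPoints ↥P ≃ Σ y : X, { φ : X.residueField y ⟶ CommRingCat.of kbar //
      φ.hom.comp (WC97.kStr f y) = algebraMap k kbar } :=
    ((pointEquivClosedPoint sndP).symm.trans e1).trans (CrvFF30.pointsEquiv f kbar)
  have hfst : ∀ z : closedPoints ↥P, (eC z).1 = π z.1 := fun z => by
    show (pointOfClosedPoint sndP z.1 z.2 ≫ π).base _ = _
    exact congrArg (π).base (pointOfClosedPoint_apply sndP z.1 z.2 _)
  let e : ↥((π).base ⁻¹' {x}) ≃ E :=
    (Equiv.mk (fun z => (⟨⟨z.1, isClosed_of_fst f z.1 (by rw [show π z.1 = x from z.2]; exact hx)⟩, z.2⟩ :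
        {z : closedPoints ↥P // π z.1 = x})) (fun z => ⟨z.1.1, z.2⟩) (fun _ => rfl) (fun _ => rfl)).trans
      ((eC.subtypeEquiv (p := fun z => π z.1 = x) (q := fun σ => σ.1 = x) fun z => by rw [hfst]).trans
        (Equiv.sigmaSubtype x))
  refine ⟨Finite.of_equiv _ (e.trans eE).symm, ?_⟩
  rw [Nat.card_congr (e.trans eE), WC97.residueDegree_eq_finrank f x, Nat.card_eq_fintype_card, AlgHom.card]

omit [LocallyOfFiniteType f] in
theorem surjective_bar : Function.Surjective (π).base := by
  letI : X.Over (Spec (CommRingCat.of k)) := ⟨f⟩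
  exact VarGal.surjective_fst (X := X) (K := kbar)

/-- Effective zero cycles of degree `n` and Galois invariant ones upstairs. -/
theorem bijOn_cycles [PerfectField k]
    (τ : (kbar ≃ₐ[k] kbar) → (pullback f (Spec.map (CommRingCat.ofHom (algebraMap k kbar))) ⟶
      pullback f (Spec.map (CommRingCat.ofHom (algebraMap k kbar)))))
    (hτ1 : ∀ σ, τ σ ≫ π = π)
    (hτ2 : ∀ σ, τ σ ≫ pullback.snd f (Spec.map (CommRingCat.ofHom (algebraMap k kbar))) =
      pullback.snd f _ ≫ Spec.map (CommRingCat.ofHom (σ : kbar →+* kbar))) (n : ℕ) :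
    Set.BijOn (fun c : X → ℕ => c ∘ (π).base)
      {c : X → ℕ | (Function.support c).Finite ∧ (∀ x, c x ≠ 0 → IsClosed ({x} : Set X)) ∧
        ∑ᶠ x, c x * EGA4loc.residueDegree f x = n}
      {d : ↑(pullback f (Spec.map (CommRingCat.ofHom (algebraMap k kbar)))) → ℕ |
        (Function.support d).Finite ∧ (∀ y, d y ≠ 0 → IsClosed ({y} : Set _)) ∧
        ∑ᶠ y, d y = n ∧ ∀ σ y, d ((τ σ).base y) = d y} := by
  classical
  have hsurj := surjective_bar f
  have key : ∀ c : X → ℕ, (Function.support c).Finite → (∀ x, c x ≠ 0 → IsClosed ({x} : Set X)) →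
      (Function.support (c ∘ (π).base)).Finite ∧ ∑ᶠ y, c ((π).base y) = ∑ᶠ x, c x * EGA4loc.residueDegree f x := by
    intro c hc hcl
    have hfib : ∀ x ∈ hc.toFinset, ((π).base ⁻¹' {x}).Finite := fun x hx =>
      Set.finite_coe_iff.1 (card_fibre_closed f x (hcl x (hc.mem_toFinset.1 hx))).1
    have hfin : (Function.support (c ∘ (π).base)).Finite :=
      (hc.toFinset.finite_toSet.biUnion hfib).subset fun y hy =>
        Set.mem_iUnion₂.2 ⟨(π).base y, Finset.mem_coe.2 (hc.mem_toFinset.2 hy), rfl⟩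
    refine ⟨hfin, ?_⟩
    rw [finsum_eq_sum_of_support_subset (fun y => c ((π).base y)) (s := hfin.toFinset) (by intro y hy; exact hfin.mem_toFinset.2 hy),
      finsum_eq_sum_of_support_subset (fun x => c x * EGA4loc.residueDegree f x) (s := hc.toFinset)
        (fun x hx => hc.mem_toFinset.2 fun h => hx (by simp [h])),
      ← Finset.sum_fiberwise_of_maps_to (t := hc.toFinset) (g := (π).base)
        (fun y hy => hc.mem_toFinset.2 (hfin.mem_toFinset.1 hy))]
    refine Finset.sum_congr rfl fun x hx => ?_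
    rw [← (card_fibre_closed f x (hcl x (hc.mem_toFinset.1 hx))).2,
      Finset.sum_congr rfl (fun y hy => by rw [(Finset.mem_filter.1 hy).2] :
        ∀ y ∈ hfin.toFinset.filter (fun y => (π).base y = x), c ((π).base y) = c x),
      Finset.sum_const, smul_eq_mul, mul_comm, ← Nat.card_eq_finsetCard]
    congr 1
    refine Nat.card_congr (Equiv.subtypeEquivRight fun y => ?_)
    refine ⟨fun h => (Finset.mem_filter.1 h).2, fun h => Finset.mem_filter.2 ⟨hfin.mem_toFinset.2 ?_, h⟩⟩
    show c ((π).base y) ≠ 0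
    rw [show (π).base y = x from h]
    exact hc.mem_toFinset.1 hx
  refine ⟨?_, fun c _ c' _ h => funext fun x => ?_, ?_⟩
  · rintro c ⟨hc, hcl, hn⟩
    obtain ⟨h1, h2⟩ := key c hc hcl
    refine ⟨h1, fun y hy => isClosed_of_fst f y (hcl _ hy), h2.trans hn, fun σ y => ?_⟩
    exact congrArg c (congrArg (fun m : pullback f _ ⟶ X => m.base y) (hτ1 σ))
  · obtain ⟨y, rfl⟩ := hsurj x
    exact congrFun h y
  · rintro d ⟨hd, hdcl, hdn, hinv⟩
    let c : X → ℕ := fun x => d (Function.surjInv hsurj x)
    have hcd : c ∘ (π).base = d := funext fun y => by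
      obtain ⟨σ, hσ⟩ := (fibre_iff_orbit τ hτ1 hτ2 (Function.surjInv hsurj ((π).base y)) y).1
        (Function.surjInv_eq hsurj _)
      show d (Function.surjInv hsurj ((π).base y)) = d y
      conv_rhs => rw [← hσ]
      exact (hinv σ _).symm
    have hc : (Function.support c).Finite :=
      (hd.image (π).base).subset fun x hx => ⟨Function.surjInv hsurj x, hx, Function.surjInv_eq hsurj x⟩
    have hcl : ∀ x, c x ≠ 0 → IsClosed ({x} : Set X) := fun x hx => by
      rw [← Function.surjInv_eq hsurj x]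
      exact isClosed_fst f _ (hdcl _ hx)
    refine ⟨c, ⟨hc, hcl, ?_⟩, hcd⟩
    rw [← (key c hc hcl).2]
    show ∑ᶠ y, (c ∘ (π).base) y = n
    rw [hcd, hdn]

end Groth.Agent.Zeta24
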