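import Groth.Agent.VarGal.Components
import Groth.Prelude.Def_FinFr
import Mathlib.FieldTheory.Finite.Basic
import Mathlib.FieldTheory.Finite.GaloisField

/-!
Closed subsets of `X_{k̄}` stable under Frobenius are defined over the finite base field.
-/

set_option autoImplicit false
set_option linter.style.haveILetI false
universe u
open CategoryTheory CategoryTheory.Limits AlgebraicGeometry TopologicalSpace

namespace Groth.Agent.Zeta24

variable {k : Type u} [Field k] [Finite k] {X : Scheme.{u}}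

/-- The `q`-Frobenius acts on field valued points through the Frobenius of the field. -/
theorem point_comp_frob (FX : X ⟶ X) (hle : ∀ U : X.Opens, U ≤ FX ⁻¹ᵁ U)
    (hFapp : ∀ (U : X.Opens) (s : Γ(X, U)), (FX.appLE U U (hle U)).hom s = s ^ Nat.card k)
    {L : Type u} [Field L] (g : Spec (CommRingCat.of L) ⟶ X) (φ : L →+* L) (hφ : ∀ x, φ x = x ^ Nat.card k) :
    g ≫ FX = Spec.map (CommRingCat.ofHom φ) ≫ g := by
  obtain ⟨U, hU, hxU, -⟩ := exists_isAffineOpen_mem_and_subset (x := g (IsLocalRing.closedPoint L)) (U := ⊤) trivial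
  have hr : Set.range g ⊆ Set.range hU.fromSpec := by
    rw [hU.range_fromSpec]
    rintro _ ⟨a, rfl⟩
    rw [Subsingleton.elim a (IsLocalRing.closedPoint L)]
    exact hxU
  obtain ⟨ψ, hψ⟩ : ∃ ψ, Spec.map ψ ≫ hU.fromSpec = g :=
    ⟨Spec.preimage (IsOpenImmersion.lift hU.fromSpec g hr), by rw [Spec.map_preimage, IsOpenImmersion.lift_fac]⟩
  rw [← hψ, Category.assoc, ← hU.SpecMap_appLE_fromSpec FX hU (hle U), ← Category.assoc, ← Category.assoc,
    ← Spec.map_comp, ← Spec.map_comp]
  congr 2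
  ext a
  simp [hφ, hFapp]

variable {f : X ⟶ Spec (CommRingCat.of k)}

local notation "kbar" => AlgebraicClosure k

theorem F_galAct_apply (FX : X ⟶ X) (hle : ∀ U : X.Opens, U ≤ FX ⁻¹ᵁ U)
    (hFapp : ∀ (U : X.Opens) (s : Γ(X, U)), (FX.appLE U U (hle U)).hom s = s ^ Nat.card k)
    (F : FinFr.ext kbar f ⟶ FinFr.ext kbar f) (hF1 : F ≫ FinFr.extπ kbar f = FinFr.extπ kbar f ≫ FX)
    (hF2 : F ≫ FinFr.extStr kbar f = FinFr.extStr kbar f) (φ : kbar ≃ₐ[k] kbar)
    (hφ : ∀ x, φ x = x ^ Nat.card k) (z : FinFr.ext kbar f) :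
    letI : X.Over (Spec (CommRingCat.of k)) := ⟨f⟩
    F ((Curv2.galAct k X kbar φ).base z) = z := by
  letI : X.Over (Spec (CommRingCat.of k)) := ⟨f⟩
  haveI := Fintype.ofFinite k
  let P := FinFr.ext kbar f
  let L := P.residueField z
  let c : Spec L ⟶ P := P.fromSpecResidueField z
  obtain ⟨b, hb⟩ := Spec.map_surjective (c ≫ FinFr.extStr kbar f)
  obtain ⟨p, hp⟩ := CharP.exists k
  haveI : Fact p.Prime := ⟨(CharP.char_is_prime_or_zero k p).resolve_right (CharP.char_ne_zero_of_finite k p)⟩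
  obtain ⟨e, -, he⟩ := FiniteField.card k p
  let ι : k →+* L := b.hom.comp (algebraMap k kbar)
  haveI : CharP L p := charP_of_injective_ringHom ι.injective p
  haveI : ExpChar L p := ExpChar.prime Fact.out
  let frob : L →+* L := iterateFrobenius L p e
  have hfrob : ∀ x, frob x = x ^ Nat.card k := fun x => by
    rw [Nat.card_eq_fintype_card, he]; exact iterateFrobenius_def p (e : ℕ) x
  have key : (Spec.map (CommRingCat.ofHom frob) ≫ c) = c ≫ Curv2.galAct k X kbar φ ≫ F := by
    apply pullback.hom_ext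
    · have h1 : (c ≫ FinFr.extπ kbar f) ≫ FX = Spec.map (CommRingCat.ofHom frob) ≫ (c ≫ FinFr.extπ kbar f) :=
        point_comp_frob FX hle hFapp _ frob hfrob
      have h2 : Curv2.galAct k X kbar φ ≫ FinFr.extπ kbar f = FinFr.extπ kbar f := VarGal.galAct_fst φ
      simp only [Category.assoc] at h1 ⊢
      erw [hF1, ← Category.assoc (Curv2.galAct k X kbar φ), h2]
      exact h1.symm
    · have h2 : Curv2.galAct k X kbar φ ≫ FinFr.extStr kbar f = FinFr.extStr kbar f ≫
          Spec.map (CommRingCat.ofHom (φ : kbar →ₐ[k] kbar).toRingHom) := VarGal.galAct_snd φ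
      simp only [Category.assoc]
      erw [hF2, h2, ← hb, ← Category.assoc c]
      erw [← hb]
      rw [← Spec.map_comp, ← Spec.map_comp]
      congr 1
      ext a
      show frob (b.hom a) = b.hom (φ a)
      rw [hfrob, hφ, map_pow]
  have := congrArg (fun m : Spec L ⟶ P => m (IsLocalRing.closedPoint L)) key
  simp only [Scheme.Hom.comp_apply] at this
  have hc : ∀ a, c a = z := fun a => Scheme.fromSpecResidueField_apply z a
  rw [hc] at this
  erw [hc] at this
  exact this.symm

theorem stable_iff [LocallyOfFiniteType f] [QuasiCompact f] (FX : X ⟶ X) (hFb : FX.base = 𝟙 _)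
    (hle : ∀ U : X.Opens, U ≤ FX ⁻¹ᵁ U)
    (hFapp : ∀ (U : X.Opens) (s : Γ(X, U)), (FX.appLE U U (hle U)).hom s = s ^ Nat.card k)
    (F : FinFr.ext kbar f ⟶ FinFr.ext kbar f) (hF1 : F ≫ FinFr.extπ kbar f = FinFr.extπ kbar f ≫ FX)
    (hF2 : F ≫ FinFr.extStr kbar f = FinFr.extStr kbar f)
    (W : Set ↑(FinFr.ext kbar f)) (hW : IsClosed W) :
    (∃ Y : Set X, IsClosed Y ∧ (FinFr.extπ kbar f).base ⁻¹' Y = W) ↔ F.base '' W ⊆ W := by
  letI : X.Over (Spec (CommRingCat.of k)) := ⟨f⟩
  constructor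
  · rintro ⟨Y, -, rfl⟩ _ ⟨z, hz, rfl⟩
    have h := congrArg (fun m : FinFr.ext kbar f ⟶ X => m z) hF1
    simp only [Scheme.Hom.comp_apply] at h
    show (FinFr.extπ kbar f) (F z) ∈ Y
    rw [h, show ∀ x, FX x = x from fun x => congr($hFb x)]
    exact hz
  intro hFW
  haveI := Fintype.ofFinite k
  haveI : Algebra.IsAlgebraic k kbar := inferInstance
  let φ : kbar ≃ₐ[k] kbar := FiniteField.frobeniusAlgEquivOfAlgebraic k kbar
  have hφ : ∀ x, φ x = x ^ Nat.card k := fun x => by
    rw [Nat.card_eq_fintype_card]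
    exact congrFun (FiniteField.coe_frobeniusAlgEquivOfAlgebraic k kbar) x
  let g : (kbar ≃ₐ[k] kbar) → ↥(Curv2.bc k X kbar) → ↥(Curv2.bc k X kbar) := fun σ => (Curv2.galAct k X kbar σ).base
  have hmul : ∀ σ τ z, g τ (g σ z) = g (σ * τ) z := fun σ τ z =>
    congrArg (fun m : Curv2.bc k X kbar ⟶ Curv2.bc k X kbar => m z) (VarGal.galAct_trans (X := X) σ τ)
  have hbij : ∀ σ, Function.Bijective (g σ) := fun σ => (Curv2.galAct k X kbar σ).homeomorph.bijective
  -- `g φ ⁻¹' W` is the image under `F`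
  haveI : CompactSpace ↥(FinFr.ext kbar f) := QuasiCompact.compactSpace_of_compactSpace (FinFr.extStr kbar f)
  haveI := LocallyOfFiniteType.isLocallyNoetherian (FinFr.extStr kbar f)
  haveI : IsNoetherian (FinFr.ext kbar f) := {}
  have hFg := F_galAct_apply FX hle hFapp F hF1 hF2 φ hφ
  have hsub : W ⊆ g φ '' W := fun w hw => by
    obtain ⟨v, rfl⟩ := (hbij φ).2 w
    refine ⟨v, ?_, rfl⟩
    have hv : F (g φ v) = v := hFg v
    rw [← hv]
    exact hFW ⟨g φ v, hw, rfl⟩
  have hWφ : g φ '' W = W := by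
    by_contra hne
    let C : ℕ → Closeds ↥(Curv2.bc k X kbar) := fun n =>
      ⟨(g φ)^[n] ⁻¹' W, hW.preimage ((Curv2.galAct k X kbar φ).continuous.iterate n)⟩
    have hss : g φ ⁻¹' W ⊂ W := by
      refine ⟨fun v hv => ?_, fun h => hne ?_⟩
      · obtain ⟨w, hw, e⟩ := hsub hv
        rwa [← (hbij φ).1 e]
      · refine Set.Subset.antisymm ?_ hsub
        rintro _ ⟨v, hv, rfl⟩
        exact h hv
    have hC : StrictAnti C := strictAnti_nat_of_succ_lt fun n => by
      show (g φ)^[n + 1] ⁻¹' W ⊂ (g φ)^[n] ⁻¹' W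
      rw [Function.iterate_succ', Set.preimage_comp]
      have hs : Function.Surjective (g φ)^[n] := (hbij φ).2.iterate n
      exact ⟨Set.preimage_mono hss.1, fun h => hss.2 ((hs.preimage_subset_preimage_iff).1 h)⟩
    haveI : NoetherianSpace ↥(Curv2.bc k X kbar) := inferInstanceAs (NoetherianSpace ↥(FinFr.ext kbar f))
    exact not_strictAnti_of_wellFoundedLT C hC
  have hcompl : IsCompact (Wᶜ : Set ↥(Curv2.bc k X kbar)) := NoetherianSpace.isCompact (α := ↥(FinFr.ext kbar f)) _
  obtain ⟨S, hS⟩ := VarGal.exists_stab_of_isCompact (X := X) (K := kbar) hW.isOpen_compl hcompl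
  have hpow : ∀ m : ℕ, g (φ ^ m) '' W = W := by
    intro m
    induction m with
    | zero =>
      have : g (φ ^ 0) = id := funext fun z => by
        rw [pow_zero]
        exact congrArg (fun m : Curv2.bc k X kbar ⟶ Curv2.bc k X kbar => m z) (VarGal.galAct_refl (X := X))
      rw [this, Set.image_id]
    | succ m ih =>
      have : g (φ ^ (m + 1)) = g φ ∘ g (φ ^ m) := funext fun z => by rw [pow_succ, ← hmul]; rfl
      rw [this, Set.image_comp, ih, hWφ]
  have hall : ∀ σ : kbar ≃ₐ[k] kbar, g σ '' W = W := by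
    intro σ
    let E := IntermediateField.adjoin k (↑S : Set kbar)
    haveI : FiniteDimensional k E := IntermediateField.finiteDimensional_adjoin fun x _ => Algebra.IsIntegral.isIntegral x
    haveI : Finite E := Module.finite_of_finite k
    obtain ⟨m, hm⟩ := (FiniteField.bijective_frobeniusAlgEquivOfAlgebraic_pow k E).2 (σ.restrictNormal E)
    have hfix : ∀ a ∈ S, ((φ ^ (m : ℕ))⁻¹ * σ) a = a := by
      intro a ha
      have h1 := AlgEquiv.restrictNormal_commutes σ E ⟨a, IntermediateField.subset_adjoin k _ ha⟩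
      rw [← hm] at h1
      show (φ ^ (m : ℕ)).symm (σ a) = a
      rw [AlgEquiv.symm_apply_eq]
      rw [show σ a = _ from h1.symm]
      simp only [AlgEquiv.coe_pow, FiniteField.coe_frobeniusAlgEquivOfAlgebraic_iterate, φ, IntermediateField.algebraMap_apply,
        SubmonoidClass.coe_pow]
    have h' : g ((φ ^ (m : ℕ))⁻¹ * σ) '' W = W := by
      have := hS _ hfix
      change g _ '' Wᶜ = Wᶜ at this
      rw [Set.image_compl_eq (hbij _)] at this
      exact compl_injective this
    have : g σ = g ((φ ^ (m : ℕ))⁻¹ * σ) ∘ g (φ ^ (m : ℕ)) := funext fun z => by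
      rw [Function.comp_apply, hmul, mul_inv_cancel_left]
    rw [this, Set.image_comp, hpow, h']
  refine ⟨(FinFr.extπ kbar f).base '' W, (VarGal.isClosedMap_fst (X := X) (K := kbar)) W hW, ?_⟩
  refine Set.Subset.antisymm ?_ (Set.subset_preimage_image _ _)
  rintro z ⟨w, hw, hwz⟩
  obtain ⟨σ, hσ⟩ := VarGal.exists_galAct_apply_eq (X := X) (K := kbar) (z := w) (z' := z) hwz
  rw [← hall σ]
  exact ⟨w, hw, hσ⟩

end Groth.Agent.Zeta24
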