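import Groth.Agent.Quot84.FlatBC
import Groth.Agent.Quot84.Props
import Mathlib.AlgebraicGeometry.Morphisms.Flat

/-!
Quotients of products by products of finite groups, over a field.
-/

set_option autoImplicit false
universe u
open CategoryTheory CategoryTheory.Limits AlgebraicGeometry TopologicalSpace Opposite

namespace Groth.Agent.Zeta24.Quot

open Quot84

theorem of_tower {X M Y : Scheme.{u}} {G H : Type u} [Group G] [Group H] {θ : G × H →* Aut X}
    {p₁ : X ⟶ M} {σ : H →* Aut M} {p₂ : M ⟶ Y} (h₁ : SGA1.IsQuot (θ.comp (MonoidHom.inl G H)) p₁)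
    (h₂ : SGA1.IsQuot σ p₂) (hc : ∀ h, (θ (1, h)).hom ≫ p₁ = p₁ ≫ (σ h).hom) :
    SGA1.IsQuot θ (p₁ ≫ p₂) := by
  have := h₁.affine
  have := h₂.affine
  have hinv : ∀ z : G × H, (θ z).hom ≫ (p₁ ≫ p₂) = p₁ ≫ p₂ := fun z => by
    have e1 : (θ.comp (MonoidHom.inl G H) z.1).hom ≫ p₁ = p₁ := h₁.inv z.1
    rw [show z = (z.1, 1) * (1, z.2) by simp, hom_mul]
    change ((θ (1, z.2)).hom ≫ (θ.comp (MonoidHom.inl G H) z.1).hom) ≫ p₁ ≫ p₂ = _
    rw [Category.assoc, ← Category.assoc (θ.comp (MonoidHom.inl G H) z.1).hom, e1,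
      ← Category.assoc, hc, Category.assoc, h₂.inv]
  have happ : ∀ (U : Y.Opens) (t : Γ(Y, U)),
      ((p₁ ≫ p₂).app U).hom t = (p₁.app (p₂ ⁻¹ᵁ U)).hom ((p₂.app U).hom t) := fun U t => by
    rw [Scheme.Hom.comp_app]; rfl
  refine ⟨inferInstanceAs (IsAffineHom (p₁ ≫ p₂)), hinv, fun U a b hab => h₂.injective U (h₁.injective _ (by rw [← happ, ← happ, hab])),
    fun U s => ⟨?_, fun hs => ?_⟩⟩
  · rintro ⟨t, rfl⟩ z
    exact app_pull_apply (p₁ ≫ p₂) (hinv z) U t
  obtain ⟨v, rfl⟩ := (h₁.range_iff (p₂ ⁻¹ᵁ U) s).2 fun g => hs (g, 1)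
  obtain ⟨w, rfl⟩ := (h₂.range_iff U v).2 fun h => by
    refine h₁.injective (p₂ ⁻¹ᵁ U) (Eq.trans ?_ (hs (1, h)))
    change ((σ h).hom.appLE _ _ _ ≫ p₁.app (p₂ ⁻¹ᵁ U)).hom v = (p₁.app (p₂ ⁻¹ᵁ U) ≫ (θ (1, h)).hom.appLE _ _ _).hom v
    rw [p₁.app_eq_appLE, Scheme.Hom.appLE_comp_appLE]
    refine Eq.trans ?_ (congrArg (fun m => m.hom v) (Scheme.Hom.appLE_comp_appLE (θ (1, h)).hom p₁ (p₂ ⁻¹ᵁ U) _ _ le_rfl _)).symm
    have : ∀ (a c : X ⟶ M) (_ : a = c) (U' : M.Opens) (V : X.Opens) (ea : V ≤ a ⁻¹ᵁ U') (ec : V ≤ c ⁻¹ᵁ U'),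
        a.appLE U' V ea = c.appLE U' V ec := by rintro a _ rfl U' V ea ec; rfl
    refine congrArg (fun m => (CommRingCat.Hom.hom m) v) ?_
    exact this _ _ (hc h).symm _ _ _ _
  exact ⟨w, happ U w⟩

/-- Equivariant base change of a quotient along `Z` over a field. -/
theorem baseChange_left {k : Type u} [Field k] {G : Type u} [Group G] [Finite G] {X Y Z : Scheme.{u}}
    {ρ : G →* Aut X} {p : X ⟶ Y} (hP : SGA1.IsQuot ρ p) (g : Y ⟶ Spec (CommRingCat.of k)) (fZ : Z ⟶ Spec (CommRingCat.of k))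
    (ρ' : G →* Aut (pullback (p ≫ g) fZ))
    (h1 : ∀ a, (ρ' a).hom ≫ pullback.fst _ _ = pullback.fst _ _ ≫ (ρ a).hom)
    (h2 : ∀ a, (ρ' a).hom ≫ pullback.snd _ _ = pullback.snd _ _) :
    SGA1.IsQuot ρ' (pullback.lift (f := g) (g := fZ) (pullback.fst _ _ ≫ p) (pullback.snd (p ≫ g) fZ)
      (by rw [Category.assoc, pullback.condition])) := by
  have : Subsingleton (Spec (CommRingCat.of k)) := inferInstanceAs (Subsingleton (PrimeSpectrum k))
  have : Flat fZ := inferInstance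
  refine flat_baseChange hP (pullback.fst g fZ) (pullback.fst (p ≫ g) fZ) _ ?_ ρ' h1 fun a => ?_
  · refine (IsPullback.of_right (h₁₂ := pullback.snd g fZ) ?_ (pullback.lift_fst _ _ _) (IsPullback.of_hasPullback g fZ).flip).flip
    rw [pullback.lift_snd]
    exact (IsPullback.of_hasPullback (p ≫ g) fZ).flip
  · apply pullback.hom_ext
    · rw [Category.assoc, pullback.lift_fst, ← Category.assoc, h1, Category.assoc, hP.inv]
    · rw [Category.assoc, pullback.lift_snd, h2]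

theorem prod {k : Type u} [Field k] {G H : Type u} [Group G] [Finite G] [Group H]
    [Finite H] {X Y XG YH : Scheme.{u}} (gX : XG ⟶ Spec (CommRingCat.of k))
    (gY : YH ⟶ Spec (CommRingCat.of k)) (ρ : G →* Aut X) (σ : H →* Aut Y)
    (p : X ⟶ XG) (q : Y ⟶ YH) (hP : SGA1.IsQuot ρ p) (hQ : SGA1.IsQuot σ q)
    (θ : G × H →* Aut (pullback (p ≫ gX) (q ≫ gY)))
    (hθ1 : ∀ gh : G × H, (θ gh).hom ≫ pullback.fst _ _ = pullback.fst _ _ ≫ (ρ gh.1).hom)
    (hθ2 : ∀ gh : G × H, (θ gh).hom ≫ pullback.snd _ _ = pullback.snd _ _ ≫ (σ gh.2).hom)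
    (π : pullback (p ≫ gX) (q ≫ gY) ⟶ pullback gX gY) (hπ1 : π ≫ pullback.fst gX gY = pullback.fst _ _ ≫ p)
    (hπ2 : π ≫ pullback.snd gX gY = pullback.snd _ _ ≫ q) :
    SGA1.IsQuot θ π := by
  have : Subsingleton (Spec (CommRingCat.of k)) := inferInstanceAs (Subsingleton (PrimeSpectrum k))
  have : Flat gX := inferInstance
  let p₁ : pullback (p ≫ gX) (q ≫ gY) ⟶ pullback gX (q ≫ gY) := pullback.lift (pullback.fst _ _ ≫ p) (pullback.snd _ _)
    (by rw [Category.assoc, pullback.condition])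
  let p₂ : pullback gX (q ≫ gY) ⟶ pullback gX gY := pullback.lift (pullback.fst _ _) (pullback.snd _ _ ≫ q)
    (by rw [Category.assoc, pullback.condition])
  -- the action of `H` on `XG × Y`
  have hσg : ∀ h, (σ h).hom ≫ (q ≫ gY) = q ≫ gY := fun h => by rw [← Category.assoc, hQ.inv]
  let act : H → (pullback gX (q ≫ gY) ⟶ pullback gX (q ≫ gY)) := fun h =>
    pullback.lift (pullback.fst _ _) (pullback.snd _ _ ≫ (σ h).hom) (by rw [Category.assoc, hσg, pullback.condition])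
  have ha1 : ∀ h, act h ≫ pullback.fst _ _ = pullback.fst _ _ := fun h => pullback.lift_fst _ _ _
  have ha2 : ∀ h, act h ≫ pullback.snd _ _ = pullback.snd _ _ ≫ (σ h).hom := fun h => pullback.lift_snd _ _ _
  have hmul : ∀ a b, act (a * b) = act b ≫ act a := fun a b => by
    apply pullback.hom_ext
    · rw [ha1, Category.assoc, ha1, ha1]
    · rw [ha2, hom_mul, Category.assoc, ha2, ← Category.assoc (act b), ha2, Category.assoc]
  have hone : act 1 = 𝟙 _ := by
    apply pullback.hom_ext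
    · rw [ha1, Category.id_comp]
    · rw [ha2, hom_one, Category.comp_id, Category.id_comp]
  let σ' : H →* Aut (pullback gX (q ≫ gY)) :=
    { toFun := fun h => ⟨act h, act h⁻¹, by rw [← hmul, inv_mul_cancel, hone], by rw [← hmul, mul_inv_cancel, hone]⟩
      map_one' := Iso.ext hone
      map_mul' := fun a b => Iso.ext (hmul a b) }
  have h₁ : SGA1.IsQuot (θ.comp (MonoidHom.inl G H)) p₁ := by
    refine baseChange_left hP gX (q ≫ gY) _ (fun a => hθ1 (a, 1)) fun a => ?_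
    rw [show ((θ.comp (MonoidHom.inl G H)) a).hom = (θ (a, 1)).hom from rfl, hθ2, hom_one, Category.comp_id]
  have h₂ : SGA1.IsQuot σ' p₂ := by
    refine flat_baseChange hQ (pullback.snd gX gY) (pullback.snd gX (q ≫ gY)) p₂ ?_ σ'
      (fun h => pullback.lift_snd _ _ _) fun h => ?_
    · refine (IsPullback.of_right (h₁₂ := pullback.fst gX gY) ?_ (pullback.lift_snd _ _ _) (IsPullback.of_hasPullback gX gY)).flip
      rw [pullback.lift_fst]
      exact IsPullback.of_hasPullback gX (q ≫ gY)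
    · apply pullback.hom_ext
      · rw [Category.assoc, pullback.lift_fst]
        exact pullback.lift_fst _ _ _
      · rw [Category.assoc, pullback.lift_snd, ← Category.assoc]
        change (act h ≫ pullback.snd _ _) ≫ q = _
        rw [pullback.lift_snd, Category.assoc, hQ.inv]
  have hπ : π = p₁ ≫ p₂ := by
    apply pullback.hom_ext
    · rw [hπ1, Category.assoc, pullback.lift_fst, pullback.lift_fst]
    · rw [hπ2, Category.assoc, pullback.lift_snd, pullback.lift_snd_assoc]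
  rw [hπ]
  refine of_tower h₁ h₂ fun h => ?_
  change _ = p₁ ≫ act h
  apply pullback.hom_ext
  · rw [Category.assoc, pullback.lift_fst, ← Category.assoc, hθ1, hom_one, Category.comp_id, Category.assoc,
      pullback.lift_fst, pullback.lift_fst]
  · rw [Category.assoc, pullback.lift_snd, hθ2, Category.assoc, pullback.lift_snd, pullback.lift_snd_assoc]

end Groth.Agent.Zeta24.Quot
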