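import Groth.Agent.Quot84.Finiteness
import Groth.Agent.Quot84.Transport
import Groth.Agent.Quot84.Props

/-!
Quotients of quotients and quotients by stabilisers of a component.
-/

set_option autoImplicit false
universe u
open CategoryTheory AlgebraicGeometry TopologicalSpace Opposite

namespace Groth.Agent.Zeta24.Quot

open Quot84

variable {X Y Z : Scheme.{u}}

theorem appLE_congr_hom {a c : X ⟶ Y} (h : a = c) (U : Y.Opens) (V : X.Opens) (e : V ≤ a ⁻¹ᵁ U) :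
    a.appLE U V e = c.appLE U V (h ▸ e) := by subst h; rfl

theorem appLE_comp_apply (f : X ⟶ Y) (g : Y ⟶ Z) (U : Z.Opens) (V : Y.Opens) (W : X.Opens) (e₁ : V ≤ g ⁻¹ᵁ U)
    (e₂ : W ≤ f ⁻¹ᵁ V) (e₃ : W ≤ (f ≫ g) ⁻¹ᵁ U) (s : Γ(Z, U)) :
    (f.appLE V W e₂).hom ((g.appLE U V e₁).hom s) = ((f ≫ g).appLE U W e₃).hom s := by
  rw [← Scheme.Hom.appLE_comp_appLE f g U V W e₁ e₂]; rfl

theorem normal_quot {G : Type u} [Group G] [Finite G] {XG XH : Scheme.{u}} {ρ : G →* Aut X} {p : X ⟶ XG}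
    (hP : SGA1.IsQuot ρ p) {H : Subgroup G} [H.Normal] {pH : X ⟶ XH}
    (hPH : SGA1.IsQuot (ρ.comp H.subtype) pH) (ρbar : G ⧸ H →* Aut XH)
    (hρbar : ∀ g : G, pH ≫ (ρbar (QuotientGroup.mk g)).hom = (ρ g).hom ≫ pH)
    (r : XH ⟶ XG) (hr : pH ≫ r = p) : SGA1.IsQuot ρbar r := by
  subst hr
  have hinv : ∀ c, (ρbar c).hom ≫ r = r := fun c => by
    obtain ⟨g, rfl⟩ := QuotientGroup.mk_surjective c
    exact eq_of_comp_eq hPH (by rw [← Category.assoc, hρbar, Category.assoc, hP.inv])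
  have happ : ∀ (U : XG.Opens) (t : Γ(XG, U)),
      ((pH ≫ r).app U).hom t = (pH.app (r ⁻¹ᵁ U)).hom ((r.app U).hom t) := fun U t => by
    rw [Scheme.Hom.comp_app]; rfl
  refine ⟨(isAffineHom_iff hPH r).1 hP.affine, hinv, fun U a b hab => hP.injective U (by rw [happ, happ, hab]),
    fun U s => ⟨?_, fun hs => ?_⟩⟩
  · rintro ⟨t, rfl⟩ c
    exact app_pull_apply r (hinv c) U t
  obtain ⟨t, ht⟩ := (hP.range_iff U ((pH.app (r ⁻¹ᵁ U)).hom s)).2 fun g => by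
    have hle : r ⁻¹ᵁ U ≤ (ρbar (QuotientGroup.mk g)).hom ⁻¹ᵁ (r ⁻¹ᵁ U) :=
      SGA1.preimage_le_of_inv ρbar r hinv _ U
    rw [pH.app_eq_appLE]
    refine Eq.trans (appLE_comp_apply (ρ g).hom pH (r ⁻¹ᵁ U) (pH ⁻¹ᵁ (r ⁻¹ᵁ U)) ((pH ≫ r) ⁻¹ᵁ U) le_rfl
      (SGA1.preimage_le_of_inv ρ (pH ≫ r) hP.inv g U)
      (by rw [← hρbar g]; exact fun x hx => hle hx) s) ?_
    rw [appLE_congr_hom (hρbar g).symm]
    refine Eq.trans (appLE_comp_apply pH _ (r ⁻¹ᵁ U) (r ⁻¹ᵁ U) ((pH ≫ r) ⁻¹ᵁ U) hle le_rfl _ s).symm ?_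
    rw [hs]; rfl
  refine ⟨t, hPH.injective (r ⁻¹ᵁ U) ?_⟩
  rw [← happ]; exact ht

theorem coset_quot {G : Type u} [Group G] [Finite G] {XG : Scheme.{u}} {ρ : G →* Aut X} {p : X ⟶ XG}
    (hP : SGA1.IsQuot ρ p) (H : Subgroup G) (Y : X.Opens)
    (hcov : ∀ x : X, ∃ g : G, x ∈ (ρ g).hom.base '' (Y : Set X))
    (hdisj : ∀ g : G, g ∉ H → Disjoint ((ρ g).hom.base '' (Y : Set X)) (Y : Set X))
    (ρY : H →* Aut (Y : Scheme.{u})) (hρY : ∀ h : H, (ρY h).hom ≫ Y.ι = Y.ι ≫ (ρ (h : G)).hom) :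
    SGA1.IsQuot ρY (Y.ι ≫ p) := by
  have := hP.affine
  have hmem : ∀ (h : G) (x : X), h ∈ H → x ∈ Y → (ρ h).hom x ∈ Y := fun h x hh hx => by
    have := congrArg (fun m : (Y : Scheme.{u}) ⟶ X => m ⟨x, hx⟩) (hρY ⟨h, hh⟩)
    change Y.ι ((ρY ⟨h, hh⟩).hom ⟨x, hx⟩) = (ρ h).hom x at this
    rw [← this]
    exact ((ρY ⟨h, hh⟩).hom ⟨x, hx⟩).2
  have hsep : ∀ (g : G) (x : X), x ∈ Y → (ρ g).hom x ∈ Y → g ∈ H := fun g x hx hgx => by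
    by_contra hg
    exact Set.disjoint_left.1 (hdisj g hg) ⟨x, hx, rfl⟩ hgx
  have hclosed : IsClosed (Y : Set X) := by
    rw [← isOpen_compl_iff]
    refine isOpen_iff_forall_mem_open.2 fun x hx => ?_
    obtain ⟨g, y, hy, rfl⟩ := hcov x
    refine ⟨(ρ g⁻¹).hom ⁻¹ᵁ Y, fun z hz hzY => ?_, ((ρ g⁻¹).hom ⁻¹ᵁ Y).2, ?_⟩
    · exact hx (hmem g y (by simpa using H.inv_mem (hsep g⁻¹ z hzY hz)) hy)
    · show (ρ g⁻¹).hom ((ρ g).hom y) ∈ Y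
      rw [← Scheme.Hom.comp_apply, ← hom_mul, inv_mul_cancel, hom_one]
      exact hy
  have : IsClosedImmersion Y.ι := IsClosedImmersion.of_isPreimmersion _ (by
    rw [show Set.range Y.ι = (Y : Set X) from Scheme.Opens.range_ι Y]; exact hclosed)
  have hinv : ∀ h, (ρY h).hom ≫ (Y.ι ≫ p) = Y.ι ≫ p := fun h => by
    rw [← Category.assoc, hρY, Category.assoc, hP.inv]
  have hW : ∀ U : XG.Opens, Y.ι ''ᵁ ((Y.ι ≫ p) ⁻¹ᵁ U) = p ⁻¹ᵁ U ⊓ Y := fun U => by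
    rw [Scheme.Hom.comp_preimage, Scheme.Hom.image_preimage_eq_opensRange_inf, Scheme.Opens.opensRange_ι, inf_comm]
  refine ⟨inferInstanceAs (IsAffineHom (Y.ι ≫ p)), hinv, fun U => ?_, fun U t => ⟨?_, fun ht => ?_⟩⟩
  · intro a b hab
    refine hP.injective U ?_
    -- two invariant sections agreeing on the component agree
    have h0 : ∀ u : Γ(XG, U), ((Y.ι ≫ p).app U).hom u =
        (p.appLE U (Y.ι ''ᵁ ((Y.ι ≫ p) ⁻¹ᵁ U)) (by rw [hW]; exact inf_le_left)).hom u := fun u => by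
      rw [Scheme.Hom.app_eq_appLE, ← appLE_comp_apply Y.ι p U (Y.ι ''ᵁ ((Y.ι ≫ p) ⁻¹ᵁ U)) _
        (by rw [hW]; exact inf_le_left) (by rw [Scheme.Hom.preimage_image_eq]) le_rfl, Scheme.Opens.ι_appLE]
      exact map_self_apply _ _
    rw [h0, h0] at hab
    refine X.sheaf.eq_of_locally_eq' (fun g : G => (ρ g).hom ⁻¹ᵁ (Y.ι ''ᵁ ((Y.ι ≫ p) ⁻¹ᵁ U))) (p ⁻¹ᵁ U)
      (fun g => homOfLE ?_) ?_ _ _ fun g => ?_
    · rw [hW]
      exact fun x hx => by simpa [← Scheme.Hom.comp_apply, hP.inv] using hx.1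
    · intro x hx
      obtain ⟨g, y, hy, rfl⟩ := hcov x
      refine Opens.mem_iSup.2 ⟨g⁻¹, ?_⟩
      show (ρ g⁻¹).hom ((ρ g).hom y) ∈ Y.ι ''ᵁ ((Y.ι ≫ p) ⁻¹ᵁ U)
      rw [← Scheme.Hom.comp_apply, ← hom_mul, inv_mul_cancel, hom_one, hW]
      exact ⟨by simpa [← Scheme.Hom.comp_apply, hP.inv] using hx, hy⟩
    · have := congrArg ((ρ g).hom.app (Y.ι ''ᵁ ((Y.ι ≫ p) ⁻¹ᵁ U))).hom hab
      have key : ∀ u, ((ρ g).hom.app (Y.ι ''ᵁ ((Y.ι ≫ p) ⁻¹ᵁ U))).hom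
          ((p.appLE U _ (by rw [hW]; exact inf_le_left)).hom u) =
          (p.appLE U ((ρ g).hom ⁻¹ᵁ (Y.ι ''ᵁ ((Y.ι ≫ p) ⁻¹ᵁ U)))
            (by rw [hW]; exact fun x hx => by simpa [← Scheme.Hom.comp_apply, hP.inv] using hx.1)).hom u := fun u => by
        rw [(ρ g).hom.app_eq_appLE, appLE_comp_apply (ρ g).hom p U _ _ _ le_rfl
          (by rw [hP.inv g, hW]; exact fun x hx => by simpa [← Scheme.Hom.comp_apply, hP.inv] using hx.1),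
          appLE_congr_hom (hP.inv g)]
      rw [key, key] at this
      exact this
  · rintro ⟨u, rfl⟩ h
    exact app_pull_apply (Y.ι ≫ p) (hinv h) U u
  let W : X.Opens := Y.ι ''ᵁ ((Y.ι ≫ p) ⁻¹ᵁ U)
  have hWX : ∀ g, (ρ g).hom ⁻¹ᵁ W ≤ p ⁻¹ᵁ U := fun g x hx => by
    have hx' : (ρ g).hom x ∈ p ⁻¹ᵁ U ⊓ Y := by rw [← hW]; exact hx
    simpa [← Scheme.Hom.comp_apply, hP.inv] using hx'.1
  have hWY : ∀ x ∈ W, x ∈ Y := fun x hx => by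
    have hx' : x ∈ p ⁻¹ᵁ U ⊓ Y := by rw [← hW]; exact hx
    exact hx'.2
  have hWh : ∀ h ∈ H, W ≤ (ρ h).hom ⁻¹ᵁ W := fun h hh x hx => by
    have hx' : x ∈ p ⁻¹ᵁ U ⊓ Y := by rw [← hW]; exact hx
    show (ρ h).hom x ∈ Y.ι ''ᵁ ((Y.ι ≫ p) ⁻¹ᵁ U)
    rw [hW]
    exact ⟨by simpa [← Scheme.Hom.comp_apply, hP.inv] using hx'.1, hmem h x hh hx'.2⟩
  let t' : Γ(X, W) := t
  have hinvt : ∀ (h : G) (hh : h ∈ H), ((ρ h).hom.appLE W W (hWh h hh)).hom t' = t' := fun h hh => by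
    have e := appLE_eq_of_comp (hρY ⟨h, hh⟩) ((Y.ι ≫ p) ⁻¹ᵁ U)
      (SGA1.preimage_le_of_inv ρY _ hinv ⟨h, hh⟩ U) (hWh h hh)
    exact (congrArg (fun m => m.hom t') e.symm).trans (ht ⟨h, hh⟩)
  let tg : ∀ g : G, Γ(X, (ρ g).hom ⁻¹ᵁ W) := fun g => ((ρ g).hom.app W).hom t'
  have hag : ∀ (g g' : G) (O : X.Opens) (e : O ≤ (ρ g).hom ⁻¹ᵁ W) (e' : O ≤ (ρ g').hom ⁻¹ᵁ W) (x : X),
      x ∈ O → ((ρ g).hom.appLE W O e).hom t' = ((ρ g').hom.appLE W O e').hom t' := by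
    intro g g' O e e' x hx
    have hh : g' * g⁻¹ ∈ H := by
      refine hsep _ ((ρ g).hom x) (hWY _ (e hx)) ?_
      rw [← Scheme.Hom.comp_apply, ← hom_mul, inv_mul_cancel_right]
      exact hWY _ (e' hx)
    have hcomp : (ρ g).hom ≫ (ρ (g' * g⁻¹)).hom = (ρ g').hom := by
      rw [← hom_mul, inv_mul_cancel_right]
    conv_lhs => rw [← hinvt _ hh]
    rw [appLE_comp_apply _ _ W W O _ _ (by rw [hcomp]; exact e'), appLE_congr_hom hcomp]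
  obtain ⟨s, hs, -⟩ := X.sheaf.existsUnique_gluing' (fun g : G => (ρ g).hom ⁻¹ᵁ W) (p ⁻¹ᵁ U)
    (fun g => homOfLE (hWX g)) (fun x hx => by
      obtain ⟨g, y, hy, rfl⟩ := hcov x
      refine Opens.mem_iSup.2 ⟨g⁻¹, ?_⟩
      show (ρ g⁻¹).hom ((ρ g).hom y) ∈ Y.ι ''ᵁ ((Y.ι ≫ p) ⁻¹ᵁ U)
      rw [← Scheme.Hom.comp_apply, ← hom_mul, inv_mul_cancel, hom_one, hW]
      exact ⟨by simpa [← Scheme.Hom.comp_apply, hP.inv] using hx, hy⟩) tg fun g g' => by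
      rcases Set.eq_empty_or_nonempty (((ρ g).hom ⁻¹ᵁ W ⊓ (ρ g').hom ⁻¹ᵁ W : X.Opens) : Set X) with he | ⟨x, hx⟩
      · refine X.sheaf.eq_of_locally_eq' (fun i : PEmpty.{u + 1} => i.elim) _ (fun i => i.elim) ?_ _ _ (fun i => i.elim)
        exact fun x hx => absurd (show x ∈ (_ : Set X) from hx) (by rw [he]; exact id)
      · change (X.presheaf.map (homOfLE inf_le_left).op).hom (tg g) = (X.presheaf.map (homOfLE inf_le_right).op).hom (tg g')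
        have := hag g g' _ inf_le_left inf_le_right x hx
        exact this
  have hs' : ∀ g, (X.presheaf.map (homOfLE (hWX g)).op).hom s = tg g := hs
  obtain ⟨u, hu⟩ := (hP.range_iff U s).2 fun a => by
    refine X.sheaf.eq_of_locally_eq' (fun g : G => (ρ g).hom ⁻¹ᵁ W) (p ⁻¹ᵁ U) (fun g => homOfLE (hWX g))
      (fun x hx => ?_) _ _ fun g => ?_
    · obtain ⟨g, y, hy, rfl⟩ := hcov x
      refine Opens.mem_iSup.2 ⟨g⁻¹, ?_⟩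
      show (ρ g⁻¹).hom ((ρ g).hom y) ∈ Y.ι ''ᵁ ((Y.ι ≫ p) ⁻¹ᵁ U)
      rw [← Scheme.Hom.comp_apply, ← hom_mul, inv_mul_cancel, hom_one, hW]
      exact ⟨by simpa [← Scheme.Hom.comp_apply, hP.inv] using hx, hy⟩
    change (X.presheaf.map (homOfLE (hWX g)).op).hom _ = (X.presheaf.map (homOfLE (hWX g)).op).hom s
    have hc : (ρ a).hom ≫ (ρ (g * a⁻¹)).hom = (ρ g).hom := by rw [← hom_mul, inv_mul_cancel_right]
    have e1 : (ρ g).hom ⁻¹ᵁ W ≤ (ρ a).hom ⁻¹ᵁ ((ρ (g * a⁻¹)).hom ⁻¹ᵁ W) := by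
      rw [← Scheme.Hom.comp_preimage, hc]
    rw [hs' g]
    change ((ρ a).hom.appLE (p ⁻¹ᵁ U) (p ⁻¹ᵁ U) _ ≫ X.presheaf.map (homOfLE (hWX g)).op).hom s = _
    rw [Scheme.Hom.appLE_map]
    have e2 : (ρ a).hom.appLE (p ⁻¹ᵁ U) ((ρ g).hom ⁻¹ᵁ W) (fun x hx => hWX _ (e1 hx)) =
        X.presheaf.map (homOfLE (hWX (g * a⁻¹))).op ≫ (ρ a).hom.appLE _ _ e1 := by
      rw [Scheme.Hom.map_appLE]
    rw [e2]
    change ((ρ a).hom.appLE _ _ e1).hom ((X.presheaf.map (homOfLE (hWX (g * a⁻¹))).op).hom s) = _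
    rw [hs']
    simp only [tg]
    rw [Scheme.Hom.app_eq_appLE, appLE_comp_apply _ _ W _ _ le_rfl e1 (by rw [hc]), appLE_congr_hom hc,
      ← Scheme.Hom.app_eq_appLE]
  refine ⟨u, ?_⟩
  have hW1 : W ≤ (ρ 1).hom ⁻¹ᵁ W := hWh 1 H.one_mem
  have h1 := congrArg (X.presheaf.map (homOfLE hW1).op).hom (hs' 1)
  have h2 : (X.presheaf.map (homOfLE hW1).op).hom (tg 1) = t' := hinvt 1 H.one_mem
  rw [h2, ← hu] at h1
  have hle : W ≤ p ⁻¹ᵁ U := fun x hx => hWX 1 (hW1 hx)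
  have h1' : (p.appLE U W hle).hom u = t' := by
    rw [← h1, Scheme.Hom.appLE, CommRingCat.comp_apply]
    change _ = (X.presheaf.map _ ≫ X.presheaf.map _).hom ((p.app U).hom u)
    rw [← Functor.map_comp]; rfl
  refine Eq.trans ?_ h1'
  rw [Scheme.Hom.app_eq_appLE, ← appLE_comp_apply Y.ι p U W _ hle
    (by rw [Scheme.Hom.preimage_image_eq]) le_rfl, Scheme.Opens.ι_appLE]
  exact map_self_apply _ _

end Groth.Agent.Zeta24.Quot
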