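import Groth.Agent.Quot84.Residue
import Groth.Agent.Quot84.Props
import Mathlib.AlgebraicGeometry.Morphisms.UniversallyInjective

/-!
Field valued points of quotients by finite groups; quotients of stable subschemes.
-/

set_option autoImplicit false
universe u
open CategoryTheory CategoryTheory.Limits AlgebraicGeometry TopologicalSpace Opposite

namespace Groth.Agent.Zeta24.Quot

open Quot84

variable {X Y : Scheme.{u}} {G : Type u} [Group G] [Finite G] {ρ : G →* Aut X} {p : X ⟶ Y}

theorem fromSpec_comp (x : X) {Ω : Type u} [Field Ω] (φ : X.residueField x ⟶ CommRingCat.of Ω) {Z : Scheme.{u}} (f : X ⟶ Z) :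
    (Spec.map φ ≫ X.fromSpecResidueField x) ≫ f = Spec.map (f.residueFieldMap x ≫ φ) ≫ Z.fromSpecResidueField (f x) := by
  rw [Spec.map_comp, Category.assoc, Category.assoc, Scheme.Hom.SpecMap_residueFieldMap_fromSpecResidueField]

theorem eq_of_SpecMap_fromSpec (x : X) {Ω : Type u} [Field Ω] {φ φ' : X.residueField x ⟶ CommRingCat.of Ω}
    (h : Spec.map φ ≫ X.fromSpecResidueField x = Spec.map φ' ≫ X.fromSpecResidueField x) : φ = φ' :=
  Spec.map_injective ((cancel_mono (X.fromSpecResidueField x)).1 h)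

theorem exists_act_same_point (hp : SGA1.IsQuot ρ p) {Ω : Type u} [Field Ω] (x : X)
    (φ φ' : X.residueField x ⟶ CommRingCat.of Ω)
    (h : (Spec.map φ ≫ X.fromSpecResidueField x) ≫ p = (Spec.map φ' ≫ X.fromSpecResidueField x) ≫ p) :
    ∃ g : G, (Spec.map φ ≫ X.fromSpecResidueField x) ≫ (ρ g).hom = Spec.map φ' ≫ X.fromSpecResidueField x := by
  obtain ⟨hN, hst⟩ := normal_and_stabilizer_surjective hp x
  rw [fromSpec_comp, fromSpec_comp] at h
  have hb := eq_of_SpecMap_fromSpec _ h
  let κy := Y.residueField (p x)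
  let κx := X.residueField x
  letI : Algebra κy κx := (p.residueFieldMap x).hom.toAlgebra
  haveI : Normal κy κx := hN
  letI : Algebra κx Ω := φ.hom.toAlgebra
  letI : Algebra κy Ω := (φ.hom.comp (p.residueFieldMap x).hom).toAlgebra
  haveI : IsScalarTower κy κx Ω := IsScalarTower.of_algebraMap_eq' rfl
  let β : κx →ₐ[κy] Ω := { φ'.hom with commutes' := fun r => (congr($(hb).hom r)).symm }
  let τ₀ : κx ≃ₐ[κy] κx := β.restrictNormal' κx
  let τ : κx ≅ κx := τ₀.toRingEquiv.toCommRingCatIso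
  have hτ : p.residueFieldMap x ≫ τ.hom = p.residueFieldMap x := CommRingCat.hom_ext (RingHom.ext τ₀.commutes)
  obtain ⟨g, e, hg⟩ := hst τ hτ
  refine ⟨g, ?_⟩
  have h1 : τ.hom ≫ φ = φ' := CommRingCat.hom_ext (RingHom.ext fun z => AlgHom.restrictNormal_commutes β κx z)
  have h2 : (ρ g).hom.residueFieldMap x = (X.residueFieldCongr e).hom ≫ τ.hom := by
    rw [hg, Iso.hom_inv_id_assoc]
  rw [fromSpec_comp, h2, Category.assoc, h1, Spec.map_comp, Category.assoc, Scheme.residueFieldCongr_fromSpecResidueField]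

/-- Two field valued points with the same image in the quotient differ by the action. -/
theorem exists_act_of_comp_eq (hp : SGA1.IsQuot ρ p) {Ω : Type u} [Field Ω]
    (a b : Spec (CommRingCat.of Ω) ⟶ X) (h : a ≫ p = b ≫ p) : ∃ g : G, a ≫ (ρ g).hom = b := by
  obtain ⟨⟨x, φ⟩, rfl⟩ := (Scheme.SpecToEquivOfField Ω X).symm.surjective a
  simp only [Scheme.SpecToEquivOfField_symm_apply] at h ⊢
  have hxx : p x = p (b (IsLocalRing.closedPoint Ω)) := by
    have := congrArg (fun m : Spec (CommRingCat.of Ω) ⟶ Y => m (IsLocalRing.closedPoint Ω)) h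
    simpa using this
  obtain ⟨g, hg⟩ := exists_of_base_eq hp hxx
  obtain ⟨⟨x', φ'⟩, hb⟩ := (Scheme.SpecToEquivOfField Ω X).symm.surjective (b ≫ (ρ g⁻¹).hom)
  simp only [Scheme.SpecToEquivOfField_symm_apply] at hb
  obtain rfl : x = x' := by
    have := congrArg (fun m : Spec (CommRingCat.of Ω) ⟶ X => m (IsLocalRing.closedPoint Ω)) hb
    rw [show x' = (ρ g⁻¹).hom (b (IsLocalRing.closedPoint Ω)) by simpa using this, ← hg,
      ← Scheme.Hom.comp_apply, ← hom_mul, inv_mul_cancel, hom_one]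
    rfl
  have hb' : (Spec.map φ' ≫ X.fromSpecResidueField x) ≫ (ρ g).hom = b := by
    rw [hb, Category.assoc, ← hom_mul, mul_inv_cancel, hom_one, Category.comp_id]
  obtain ⟨g', hg'⟩ := exists_act_same_point hp x φ φ' (by rw [h, hb, Category.assoc, hp.inv])
  exact ⟨g * g', by rw [hom_mul, ← Category.assoc, hg', hb']⟩

/-- Points with values in an algebraically closed field lift to the source. -/
theorem exists_lift_point (hp : SGA1.IsQuot ρ p) {Ω : Type u} [Field Ω] [IsAlgClosed Ω]
    (c : Spec (CommRingCat.of Ω) ⟶ Y) : ∃ a : Spec (CommRingCat.of Ω) ⟶ X, a ≫ p = c := by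
  obtain ⟨⟨y, ψ⟩, rfl⟩ := (Scheme.SpecToEquivOfField Ω Y).symm.surjective c
  simp only [Scheme.SpecToEquivOfField_symm_apply]
  obtain ⟨x, rfl⟩ := surjective hp y
  obtain ⟨hN, -⟩ := normal_and_stabilizer_surjective hp x
  let κy := Y.residueField (p x)
  let κx := X.residueField x
  letI : Algebra κy κx := (p.residueFieldMap x).hom.toAlgebra
  haveI : Normal κy κx := hN
  letI : Algebra κy Ω := ψ.hom.toAlgebra
  let φ : κx →ₐ[κy] Ω := IsAlgClosed.lift
  refine ⟨Spec.map (CommRingCat.ofHom φ.toRingHom) ≫ X.fromSpecResidueField x, ?_⟩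
  rw [fromSpec_comp]
  congr 2
  exact CommRingCat.hom_ext (RingHom.ext φ.commutes)

theorem fromSpec_apply {Z : Scheme.{u}} (z : Z) {Ω : Type u} [Field Ω] (ψ : Z.residueField z ⟶ CommRingCat.of Ω)
    (a : Spec (CommRingCat.of Ω)) : (Spec.map ψ ≫ Z.fromSpecResidueField z) a = z := by
  rw [Scheme.Hom.comp_apply, Scheme.fromSpecResidueField_apply]

theorem universallyInjective_stable {W WG : Scheme.{u}} (hp : SGA1.IsQuot ρ p) (j : W ⟶ X) [IsImmersion j]
    (ρW : G →* Aut W) (hρW : ∀ g, (ρW g).hom ≫ j = j ≫ (ρ g).hom) (pW : W ⟶ WG) (hPW : SGA1.IsQuot ρW pW)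
    (φ : WG ⟶ Y) (hφ : pW ≫ φ = j ≫ p) :
    UniversallyInjective φ ∧ Set.range φ.base = p.base '' Set.range j.base := by
  refine ⟨(UniversallyInjective.iff_diagonal φ).2 ⟨fun z => ?_⟩, ?_⟩
  · let Ω := AlgebraicClosure ((pullback φ φ).residueField z)
    obtain ⟨pt, hptz⟩ : ∃ pt : Spec (CommRingCat.of Ω) ⟶ pullback φ φ, pt (IsLocalRing.closedPoint Ω) = z :=
      ⟨Spec.map (CommRingCat.ofHom (algebraMap ((pullback φ φ).residueField z) Ω)) ≫ (pullback φ φ).fromSpecResidueField z,
        fromSpec_apply z _ _⟩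
    obtain ⟨a, ha⟩ := exists_lift_point hPW (pt ≫ pullback.fst φ φ)
    obtain ⟨b, hb⟩ := exists_lift_point hPW (pt ≫ pullback.snd φ φ)
    have hab : (a ≫ j) ≫ p = (b ≫ j) ≫ p := by
      rw [Category.assoc, Category.assoc, ← hφ, ← Category.assoc a, ← Category.assoc b, ha, hb, Category.assoc,
        Category.assoc, pullback.condition]
    obtain ⟨g, hg⟩ := exists_act_of_comp_eq hp _ _ hab
    have hgW : a ≫ (ρW g).hom = b := by
      rw [← cancel_mono j, Category.assoc, hρW, ← Category.assoc, hg]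
    have hc : pt ≫ pullback.fst φ φ = pt ≫ pullback.snd φ φ := by
      rw [← ha, ← hb, ← hgW, Category.assoc, hPW.inv]
    have hpt : pt = (pt ≫ pullback.fst φ φ) ≫ pullback.diagonal φ := by
      apply pullback.hom_ext
      · conv_rhs => rw [Category.assoc, pullback.diagonal_fst, Category.comp_id]
      · conv_rhs => rw [Category.assoc, pullback.diagonal_snd, Category.comp_id, hc]
    refine ⟨(pt ≫ pullback.fst φ φ) (IsLocalRing.closedPoint Ω), ?_⟩
    rw [← Scheme.Hom.comp_apply, ← hpt, hptz]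
  · rw [← Set.range_comp]
    have hs := surjective hPW
    rw [← hs.range_comp φ.base]
    refine congrArg Set.range (funext fun w => ?_)
    exact congrArg (fun m : W ⟶ Y => m w) hφ

end Groth.Agent.Zeta24.Quot
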