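import Mathlib

/-!
Picard group of a polynomial ring over a product of GCD domains.
-/

set_option autoImplicit false
universe u

noncomputable section

open MvPolynomial TensorProduct

namespace Groth.Agent.Zeta24

theorem isGCDMonoid_of_mulEquiv {α β : Type*} [CommMonoidWithZero α] [CommMonoidWithZero β]
    [IsCancelMulZero β] [h : IsGCDMonoid α] (e : α ≃* β) : IsGCDMonoid β := by
  obtain ⟨-, hg⟩ := isGCDMonoid_iff_exists_gcd.1 h
  refine isGCDMonoid_iff_exists_gcd.2 ⟨inferInstance, fun a b => ?_⟩
  obtain ⟨c, hc⟩ := hg (e.symm a) (e.symm b)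
  exact ⟨e c, fun d => by
    have := hc (e.symm d)
    simpa [map_dvd_iff, ← map_dvd_iff e.symm (a := d) (b := e c)] using this⟩

theorem isGCDMonoid_mvPolynomial (R : Type u) [CommRing R] [IsDomain R] [IsGCDMonoid R] :
    ∀ n : ℕ, IsGCDMonoid (MvPolynomial (Fin n) R)
  | 0 => isGCDMonoid_of_mulEquiv (isEmptyRingEquiv R (Fin 0)).symm.toMulEquiv
  | n + 1 =>
    have := isGCDMonoid_mvPolynomial R n
    isGCDMonoid_of_mulEquiv (finSuccEquiv R n).symm.toMulEquiv

/-- The image of a rank one idempotent in a domain with trivial Picard group factors. -/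
theorem exists_factor {B B' : Type u} [CommRing B] [CommRing B'] [Algebra B B']
    [Subsingleton (CommRing.Pic B')] (M : Type u) [AddCommGroup M] [Module B M] [Module.Invertible B M]
    {ι : Type} [Fintype ι] (l : ι → (M →ₗ[B] B)) (x : ι → M) (hlx : ∀ y, ∑ k, l k y • x k = y) :
    ∃ a b : ι → B', (∀ j k, algebraMap B B' (l j (x k)) = a k * b j) ∧ ∑ k, b k * a k = 1 := by
  obtain ⟨ψ⟩ := Module.Invertible.free_iff_linearEquiv.1 (inferInstance : Module.Free B' (B' ⊗[B] M))
  let L : ι → (B' ⊗[B] M →ₗ[B'] B') := fun j => ((Algebra.linearMap B B').comp (l j)).liftBaseChange B'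
  have hL : ∀ z, ∑ k, L k z • (1 : B') ⊗ₜ[B] x k = z := by
    intro z
    induction z using TensorProduct.induction_on with
    | zero => simp
    | tmul c y =>
      conv_rhs => rw [← hlx y, TensorProduct.tmul_sum]
      refine Finset.sum_congr rfl fun k _ => ?_
      simp [L, TensorProduct.smul_tmul', ← TensorProduct.smul_tmul, Algebra.smul_def, mul_comm]
    | add z w hz hw => simp only [map_add, add_smul, Finset.sum_add_distrib, hz, hw]
  refine ⟨fun k => ψ ((1 : B') ⊗ₜ x k), fun j => L j (ψ.symm 1), fun j k => ?_, ?_⟩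
  · have h : (1 : B') ⊗ₜ[B] x k = ψ ((1 : B') ⊗ₜ x k) • ψ.symm 1 := by
      rw [← map_smul, smul_eq_mul, mul_one, LinearEquiv.symm_apply_apply]
    have := congrArg (L j) h
    rw [map_smul, smul_eq_mul] at this
    simpa [L] using this
  · have := congrArg ψ (hL (ψ.symm 1))
    simpa using this

variable {ι : Type u} {σ : Type} [Fintype σ] {R : ι → Type u} [∀ i, CommRing (R i)]

/-- A family of polynomials of bounded degree comes from a polynomial over the product. -/
theorem exists_forall_map_eq (D : ℕ) (a : ∀ i, MvPolynomial σ (R i)) (ha : ∀ i, (a i).totalDegree ≤ D) :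
    ∃ α : MvPolynomial σ (∀ i, R i), ∀ i, MvPolynomial.map (Pi.evalRingHom R i) α = a i := by
  classical
  refine ⟨∑ d ∈ Finset.Iic (Finsupp.equivFunOnFinite.symm fun _ => D), monomial d (fun i => coeff d (a i)),
    fun i => ?_⟩
  ext d
  rw [coeff_map, coeff_sum]
  simp only [coeff_monomial, Finset.sum_ite_eq', Finset.mem_Iic]
  split_ifs with h
  · rfl
  · rw [map_zero]
    refine (coeff_eq_zero_of_totalDegree_lt ?_).symm
    obtain ⟨s, hs⟩ : ∃ s, D < d s := by
      by_contra hc; push_neg at hc; exact h fun s => hc s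
    refine lt_of_le_of_lt (ha i) (lt_of_lt_of_le hs ?_)
    exact Finset.single_le_sum (fun t _ => Nat.zero_le (d t)) (Finsupp.mem_support_iff.2 (by omega))

theorem map_evalRingHom_ext {p q : MvPolynomial σ (∀ i, R i)}
    (h : ∀ i, MvPolynomial.map (Pi.evalRingHom R i) p = MvPolynomial.map (Pi.evalRingHom R i) q) : p = q := by
  ext d i
  have := congrArg (coeff d) (h i)
  rw [coeff_map, coeff_map] at this
  exact this

theorem pic_mvPolynomial_pi_subsingleton [∀ i, IsDomain (R i)]
    (hR : ∀ i, Subsingleton (CommRing.Pic (MvPolynomial σ (R i)))) :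
    Subsingleton (CommRing.Pic (MvPolynomial σ (∀ i, R i))) := by
  classical
  refine CommRing.Pic.subsingleton_iff.2 fun M _ _ _ => ?_
  obtain ⟨m, f, g, -, -, hfg⟩ := Module.Finite.exists_comp_eq_id_of_projective (MvPolynomial σ (∀ i, R i)) M
  let l : Fin m → (M →ₗ[MvPolynomial σ (∀ i, R i)] MvPolynomial σ (∀ i, R i)) := fun j => (LinearMap.proj j).comp g
  let x : Fin m → M := fun k => f (Pi.single k 1)
  have hlx : ∀ y, ∑ k, l k y • x k = y := fun y => by
    conv_rhs => rw [← LinearMap.id_apply (R := MvPolynomial σ (∀ i, R i)) y, ← hfg, LinearMap.comp_apply,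
      pi_eq_sum_univ' (g y)]
    simp [l, x, map_sum]
  let D := Finset.univ.sup fun jk : Fin m × Fin m => (l jk.1 (x jk.2)).totalDegree
  have key : ∀ i, ∃ a b : Fin m → MvPolynomial σ (R i),
      (∀ j k, MvPolynomial.map (Pi.evalRingHom R i) (l j (x k)) = a k * b j) ∧ ∑ k, b k * a k = 1 ∧
      (∀ k, (a k).totalDegree ≤ D ∧ (b k).totalDegree ≤ D) := by
    intro i
    letI := (MvPolynomial.map (Pi.evalRingHom R i) : MvPolynomial σ (∀ i, R i) →+* MvPolynomial σ (R i)).toAlgebra
    obtain ⟨a, b, hab, h1⟩ := exists_factor (B' := MvPolynomial σ (R i)) M l x hlx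
    refine ⟨a, b, hab, h1, fun k => ?_⟩
    obtain ⟨t, -, ht⟩ := Finset.exists_ne_zero_of_sum_ne_zero (h1.symm ▸ one_ne_zero)
    have hle : ∀ j k, (a k * b j).totalDegree ≤ D := fun j k => by
      rw [← hab]
      exact le_trans (show (algebraMap _ _ (l j (x k)) : MvPolynomial σ (R i)).totalDegree ≤ (l j (x k)).totalDegree
          from Finset.sup_mono (MvPolynomial.support_map_subset _ _))
        (Finset.le_sup (f := fun jk : Fin m × Fin m => (l jk.1 (x jk.2)).totalDegree) (Finset.mem_univ (j, k)))
    constructor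
    · rcases eq_or_ne (a k) 0 with h | h
      · simp [h]
      · have := hle t k
        rw [totalDegree_mul_of_isDomain h (left_ne_zero_of_mul ht)] at this
        omega
    · rcases eq_or_ne (b k) 0 with h | h
      · simp [h]
      · have := hle k t
        rw [totalDegree_mul_of_isDomain (right_ne_zero_of_mul ht) h] at this
        omega
  choose a b hab h1 hd using key
  choose α hα using fun k => exists_forall_map_eq D (fun i => a i k) fun i => (hd i k).1
  choose β hβ using fun k => exists_forall_map_eq D (fun i => b i k) fun i => (hd i k).2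
  have hAB : ∀ j k, l j (x k) = α k * β j := fun j k => map_evalRingHom_ext fun i => by
    rw [map_mul, hα, hβ, hab]
  have hBA : ∑ k, β k * α k = 1 := map_evalRingHom_ext fun i => by
    simp only [map_sum, map_mul, hα, hβ, h1, map_one]
  let F : M →ₗ[MvPolynomial σ (∀ i, R i)] MvPolynomial σ (∀ i, R i) := ∑ k, α k • l k
  let G := LinearMap.toSpanSingleton (MvPolynomial σ (∀ i, R i)) M (∑ j, β j • x j)
  refine Module.Invertible.free_iff_linearEquiv.2 ⟨LinearEquiv.ofLinearMap F G ?_ ?_⟩
  · refine LinearMap.ext_ring ?_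
    simp only [F, G, LinearMap.comp_apply, LinearMap.toSpanSingleton_apply, one_smul, LinearMap.sum_apply,
      LinearMap.smul_apply, smul_eq_mul, map_sum, map_smul, hAB, LinearMap.id_apply]
    calc _ = (∑ k, β k * α k) * ∑ k, β k * α k := by
          rw [Finset.sum_mul_sum]
          refine Finset.sum_congr rfl fun k _ => ?_
          rw [Finset.mul_sum]
          exact Finset.sum_congr rfl fun j _ => by ring
      _ = 1 := by rw [hBA, one_mul]
  · refine LinearMap.ext fun y => ?_
    simp only [F, G, LinearMap.comp_apply, LinearMap.toSpanSingleton_apply, LinearMap.sum_apply,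
      LinearMap.smul_apply, smul_eq_mul, Finset.sum_smul, LinearMap.id_apply]
    conv_rhs => rw [← hlx y]
    refine Finset.sum_congr rfl fun k _ => ?_
    conv_rhs => rw [← hlx (x k)]
    simp only [Finset.smul_sum, smul_smul, hAB]
    exact Finset.sum_congr rfl fun j _ => by congr 1; ring

end Groth.Agent.Zeta24
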