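import Mathlib.AlgebraicGeometry.Morphisms.Smooth
import Mathlib.Algebra.DualNumber
import Mathlib.RingTheory.AdjoinRoot
import Mathlib.FieldTheory.Finite.Basic

/-!
Every rational hyperplane is tangent to `∑ (X_i Y_i^q - Y_i X_i^q) = 0`.
-/

set_option autoImplicit false
universe u
open AlgebraicGeometry CategoryTheory MvPolynomial

namespace Groth.Agent.Zeta24.HermitianHyp

variable {k : Type u} [Field k] {n : ℕ}

/-- The point of tangency. -/
def tangentPt (c : Fin (n + 1) ⊕ Fin (n + 1) → k) : Fin (n + 1) ⊕ Fin (n + 1) → k :=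
  Sum.elim (fun i => -c (Sum.inr i)) fun i => c (Sum.inl i)

/-- The alternating form. -/
def alt (v w : Fin (n + 1) ⊕ Fin (n + 1) → k) : k :=
  ∑ i, (v (Sum.inl i) * w (Sum.inr i) - v (Sum.inr i) * w (Sum.inl i))

theorem exists_alt_ne_zero (hn : 1 ≤ n) (c : Fin (n + 1) ⊕ Fin (n + 1) → k) (hc : c ≠ 0) :
    ∃ v w : Fin (n + 1) ⊕ Fin (n + 1) → k, ∑ x, c x * v x = 0 ∧ ∑ x, c x * w x = 0 ∧ alt v w ≠ 0 := by
  classical
  obtain ⟨x₀, hx₀⟩ := Function.ne_iff.1 hc
  let φ : (Fin (n + 1) ⊕ Fin (n + 1) → k) →ₗ[k] k := ∑ x, c x • LinearMap.proj x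
  have hφ : ∀ v, φ v = ∑ x, c x * v x := fun v => by simp [φ]
  have hex : ∃ w ∈ LinearMap.ker φ, w ∉ Submodule.span k {tangentPt c} := by
    by_contra h
    push Not at h
    have h1 := (Submodule.finrank_mono (show LinearMap.ker φ ≤ Submodule.span k {tangentPt c} from h)).trans
      (finrank_span_le_card ({tangentPt c} : Set (Fin (n + 1) ⊕ Fin (n + 1) → k)))
    have h2 := LinearMap.finrank_range_add_finrank_ker φ
    have h3 : Module.finrank k (LinearMap.range φ) ≤ 1 := (Submodule.finrank_le _).trans (Module.finrank_self k).le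
    simp only [Set.toFinset_singleton, Finset.card_singleton] at h1
    rw [Module.finrank_fintype_fun_eq_card, Fintype.card_sum, Fintype.card_fin] at h2
    omega
  obtain ⟨w, hw, hwP⟩ := hex
  have hw0 : ∑ x, c x * w x = 0 := by rw [← hφ]; exact hw
  by_contra hno
  push Not at hno
  have h0 : ∀ v, ∑ x, c x * v x = 0 → alt v w = 0 := fun v hv => hno v w hv hw0
  let ψ : Fin (n + 1) ⊕ Fin (n + 1) → k := Sum.elim (fun i => w (Sum.inr i)) fun i => -w (Sum.inl i)
  have hψ : ∀ v, alt v w = ∑ x, ψ x * v x := fun v => by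
    rw [alt, Fintype.sum_sum_type, ← Finset.sum_add_distrib]
    exact Finset.sum_congr rfl fun i _ => by simp [ψ]; ring
  have hprop : ∀ x, ψ x = ψ x₀ / c x₀ * c x := by
    intro x
    rcases eq_or_ne x x₀ with rfl | hne
    · rw [div_mul_cancel₀ _ hx₀]
    let v : Fin (n + 1) ⊕ Fin (n + 1) → k := fun y => if y = x then 1 else if y = x₀ then -(c x / c x₀) else 0
    have hsum : ∀ a : Fin (n + 1) ⊕ Fin (n + 1) → k, ∑ y, a y * v y = a x - a x₀ * (c x / c x₀) := fun a => by
      rw [← Finset.sum_subset (Finset.subset_univ {x, x₀}) fun y _ hy => by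
        simp only [Finset.mem_insert, Finset.mem_singleton, not_or] at hy
        simp [v, hy.1, hy.2], Finset.sum_pair hne]
      simp [v, hne.symm]; ring
    have h1 : ∑ y, c y * v y = 0 := by rw [hsum, mul_div_cancel₀ _ hx₀, sub_self]
    have h2 := h0 v h1
    rw [hψ, hsum, sub_eq_zero] at h2
    rw [h2]; ring
  refine hwP (Submodule.mem_span_singleton.2 ⟨ψ x₀ / c x₀, funext fun x => ?_⟩)
  rcases x with i | i
  · have := hprop (Sum.inr i)
    simp only [ψ, Sum.elim_inr] at this
    simp only [tangentPt, Pi.smul_apply, Sum.elim_inl, smul_eq_mul]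
    rw [mul_neg, ← this, neg_neg]
  · have := hprop (Sum.inl i)
    simp only [ψ, Sum.elim_inl] at this
    simp only [tangentPt, Pi.smul_apply, Sum.elim_inr, smul_eq_mul]
    exact this.symm

/-- A test ring with `a² = 0`, `b^{q+1} = 0`, `a b^q ≠ 0`. -/
theorem exists_testRing (q : ℕ) :
    ∃ (T : Type u) (_ : CommRing T) (_ : Algebra k T) (_ : Nontrivial T) (a b : T),
      a * a = 0 ∧ b ^ (q + 1) = 0 ∧ a * b ^ q ≠ 0 := by
  let A₀ := AdjoinRoot ((Polynomial.X : Polynomial k) ^ (q + 1))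
  let r : A₀ := AdjoinRoot.root _
  haveI : Nontrivial A₀ := AdjoinRoot.nontrivial _ (by rw [Polynomial.degree_X_pow]; exact_mod_cast Nat.succ_ne_zero q)
  haveI : Nontrivial (DualNumber A₀) := TrivSqZeroExt.inl_injective.nontrivial (α := A₀)
  have hr : r ^ (q + 1) = 0 := by
    show AdjoinRoot.root _ ^ (q + 1) = 0
    rw [← AdjoinRoot.mk_X, ← map_pow, AdjoinRoot.mk_self]
  have hrq : r ^ q ≠ 0 := fun h => by
    change AdjoinRoot.root _ ^ q = 0 at h
    rw [← AdjoinRoot.mk_X, ← map_pow, AdjoinRoot.mk_eq_zero, Polynomial.X_pow_dvd_iff] at h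
    simpa using h q (Nat.lt_succ_self q)
  refine ⟨DualNumber A₀, inferInstance, inferInstance, inferInstance, DualNumber.eps, TrivSqZeroExt.inlHom A₀ A₀ r,
    DualNumber.eps_mul_eps, by rw [← map_pow, hr, map_zero], fun h => hrq ?_⟩
  have h' := congrArg TrivSqZeroExt.snd h
  rw [← map_pow] at h'
  simpa [DualNumber.eps] using h'

theorem not_smooth [Fintype k] (hn : 1 ≤ n) (F L : MvPolynomial (Fin (n + 1) ⊕ Fin (n + 1)) k)
    (hF : F = ∑ i : Fin (n + 1), (X (Sum.inl i) * X (Sum.inr i) ^ Fintype.card k -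
      X (Sum.inr i) * X (Sum.inl i) ^ Fintype.card k))
    (c : Fin (n + 1) ⊕ Fin (n + 1) → k) (hc : c ≠ 0) (hL : L = ∑ v, C (c v) * X v) :
    ∃ w : Fin (n + 1) ⊕ Fin (n + 1), ¬ Algebra.Smooth k
      (Localization.Away (Ideal.Quotient.mk (Ideal.span {F, L}) (X w))) := by
  classical
  obtain ⟨v, w, hv, hw, hs⟩ := exists_alt_ne_zero hn c hc
  set P := tangentPt c
  obtain ⟨x₀, hP0⟩ : ∃ x, P x ≠ 0 := by
    obtain ⟨y, hy⟩ := Function.ne_iff.1 hc
    rcases y with i | i
    · exact ⟨Sum.inr i, by simpa [P, tangentPt] using hy⟩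
    · exact ⟨Sum.inl i, by simpa [P, tangentPt] using hy⟩
  refine ⟨x₀, fun hsm => ?_⟩
  obtain ⟨p, hp⟩ := CharP.exists k
  haveI : Fact p.Prime := ⟨(CharP.char_is_prime_or_zero k p).resolve_right (CharP.char_ne_zero_of_finite k p)⟩
  obtain ⟨e, -, hq⟩ := FiniteField.card k p
  set q := Fintype.card k with hqdef
  have hq2 : 2 ≤ q := Fintype.one_lt_card
  obtain ⟨T, _, _, _, a, b, ha, hb, hne⟩ := exists_testRing (k := k) q
  haveI : CharP T p := charP_of_injective_algebraMap (algebraMap k T).injective p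
  haveI : ExpChar T p := ExpChar.prime Fact.out
  have hfrob : ∀ x y : T, (x + y) ^ q = x ^ q + y ^ q := fun x y => by rw [hq]; exact add_pow_expChar_pow x y p e
  have haq : a ^ q = 0 := by
    rw [show q = 2 + (q - 2) by omega, pow_add, pow_two, ha, zero_mul]
  have hbge : ∀ m, q + 1 ≤ m → b ^ m = 0 := fun m hm => by
    rw [← Nat.add_sub_cancel' hm, pow_add, hb, zero_mul]
  let J : Ideal T := Ideal.span {a * b, b * b}
  have hJ : IsNilpotent J := by
    refine ⟨q + 1, le_bot_iff.1 ((Ideal.pow_right_mono (show J ≤ Ideal.span {b} from Ideal.span_le.2 ?_) _).trans ?_)⟩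
    · rintro _ (rfl | rfl) <;> exact Ideal.mem_span_singleton.2 (dvd_mul_left b _)
    · rw [Ideal.span_singleton_pow, hb]; simp
  have hJ1 : ∀ j ∈ J, j * b ^ q = 0 := by
    intro j hj
    obtain ⟨r, s, rfl⟩ := Ideal.mem_span_pair.1 hj
    linear_combination (r * a + s * b) * hb
  have hJ2 : ∀ j ∈ J, j ^ q = 0 := by
    intro j hj
    obtain ⟨r, s, rfl⟩ := Ideal.mem_span_pair.1 hj
    rw [show r * (a * b) + s * (b * b) = b * (r * a + s * b) by ring, mul_pow, hfrob, mul_pow, mul_pow, haq,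
      mul_zero, zero_add, mul_left_comm, ← pow_add, hbge _ (by omega), mul_zero]
  let al := algebraMap k T
  let S := Localization.Away (Ideal.Quotient.mk (Ideal.span {F, L}) (X x₀))
  have hqk : ∀ z : k, al z ^ q = al z := fun z => by rw [← map_pow, FiniteField.pow_card]
  -- values near the tangent point
  have hFval : ∀ j : Fin (n + 1) ⊕ Fin (n + 1) → T, (∀ x, j x ∈ J) →
      (∑ x, al (c x) * (al (v x) * a + al (w x) * b + j x) = 0) →
      aeval (fun x => al (P x) + (al (v x) * a + al (w x) * b + j x)) F = al (alt v w) * (a * b ^ q) := by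
    intro j hj hL0
    have hpow : ∀ x, (al (P x) + (al (v x) * a + al (w x) * b + j x)) ^ q = al (P x) + al (w x) * b ^ q := fun x => by
      rw [hfrob, hfrob, hfrob, mul_pow, mul_pow, haq, hJ2 _ (hj x), hqk, hqk, hqk, mul_zero, zero_add, add_zero]
    rw [hF, map_sum]
    simp only [map_sub, map_mul, map_pow, aeval_X, hpow]
    rw [alt, map_sum, Finset.sum_mul, ← sub_eq_zero, ← Finset.sum_sub_distrib]
    have hw' : ∑ x, al (c x) * al (w x) = 0 := by
      simp only [← map_mul]; rw [← map_sum, hw, map_zero]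
    have hzero : (∑ x, al (c x) * (al (v x) * a + al (w x) * b + j x)) - b ^ q * ∑ x, al (c x) * al (w x) = 0 := by
      rw [hL0, hw', mul_zero, sub_zero]
    refine Eq.trans ?_ hzero
    rw [Fintype.sum_sum_type, Fintype.sum_sum_type, mul_add, Finset.mul_sum, Finset.mul_sum,
      ← Finset.sum_add_distrib, ← Finset.sum_add_distrib, ← Finset.sum_sub_distrib]
    refine Finset.sum_congr rfl fun i _ => ?_
    have j1 := hJ1 _ (hj (Sum.inl i))
    have j2 := hJ1 _ (hj (Sum.inr i))
    have e1 : P (Sum.inl i) = -c (Sum.inr i) := rfl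
    have e2 : P (Sum.inr i) = c (Sum.inl i) := rfl
    rw [e1, e2, map_sub, map_mul, map_mul, map_neg]
    linear_combination al (w (Sum.inr i)) * j1 - al (w (Sum.inl i)) * j2
      + (al (w (Sum.inl i)) * al (w (Sum.inr i)) - al (w (Sum.inr i)) * al (w (Sum.inl i))) * hb
  -- the point over `T / J`
  let u : Fin (n + 1) ⊕ Fin (n + 1) → T := fun x => al (P x) + (al (v x) * a + al (w x) * b)
  have hlin : ∑ x, al (c x) * (al (v x) * a + al (w x) * b + 0) = 0 := by
    calc ∑ x, al (c x) * (al (v x) * a + al (w x) * b + 0)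
        = al (∑ x, c x * v x) * a + al (∑ x, c x * w x) * b := by
          simp only [map_sum, map_mul, Finset.sum_mul, ← Finset.sum_add_distrib]
          exact Finset.sum_congr rfl fun x _ => by ring
      _ = 0 := by rw [hv, hw, map_zero]; ring
  have hLP : ∑ x, al (c x) * al (P x) = 0 := by
    simp only [← map_mul]
    rw [← map_sum, Fintype.sum_sum_type, ← Finset.sum_add_distrib,
      Finset.sum_eq_zero fun i _ => by simp [P, tangentPt]; ring, map_zero]
  let g₀ : MvPolynomial (Fin (n + 1) ⊕ Fin (n + 1)) k →ₐ[k] T ⧸ J := (Ideal.Quotient.mkₐ k J).comp (aeval u)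
  have hg₀ : ∀ z ∈ Ideal.span {F, L}, g₀ z = 0 := by
    intro z hz
    refine (show Ideal.span {F, L} ≤ RingHom.ker g₀ from Ideal.span_le.2 ?_) hz
    intro z hz
    show g₀ z = 0
    rcases hz with h | h <;> rw [h]
    · refine Ideal.Quotient.eq_zero_iff_mem.2 ?_
      have := hFval 0 (fun _ => J.zero_mem) hlin
      simp only [Pi.zero_apply, add_zero] at this
      refine Eq.mpr (congrArg (· ∈ J) this) ?_
      refine J.mul_mem_left _ ?_
      rw [show b ^ q = b * b ^ (q - 1) by rw [← pow_succ', Nat.sub_add_cancel (by omega)], ← mul_assoc]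
      exact J.mul_mem_right _ (Ideal.subset_span (Set.mem_insert _ _))
    · refine Ideal.Quotient.eq_zero_iff_mem.2 ?_
      have : aeval u L = 0 := by
        rw [hL, map_sum]
        simp only [map_mul, aeval_C, aeval_X, u, mul_add, Finset.sum_add_distrib]
        have h2 := hlin
        simp only [add_zero, mul_add, Finset.sum_add_distrib] at h2
        rw [hLP, zero_add]; exact h2
      exact Eq.mpr (congrArg (· ∈ J) this) J.zero_mem
  let g₁ : (MvPolynomial (Fin (n + 1) ⊕ Fin (n + 1)) k ⧸ Ideal.span {F, L}) →ₐ[k] T ⧸ J :=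
    Ideal.Quotient.liftₐ _ g₀ hg₀
  have hunit : IsUnit (g₁ (Ideal.Quotient.mk _ (X x₀))) := by
    show IsUnit (Ideal.Quotient.mk J (aeval u (X x₀)))
    rw [aeval_X]
    refine IsUnit.map _ ?_
    have hnil : IsNilpotent (al (v x₀) * a + al (w x₀) * b) :=
      (Commute.all _ _).isNilpotent_add (Commute.isNilpotent_mul_left (Commute.all _ _) ⟨2, by rw [pow_two, ha]⟩)
        (Commute.isNilpotent_mul_left (Commute.all _ _) ⟨q + 1, hb⟩)
    exact hnil.isUnit_add_left_of_commute ((isUnit_iff_ne_zero.2 hP0).map al) (Commute.all _ _)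
  let g : S →ₐ[k] T ⧸ J := IsLocalization.liftAlgHom (M := Submonoid.powers (Ideal.Quotient.mk (Ideal.span {F, L}) (X x₀)))
    (f := g₁) (by rintro ⟨_, m, rfl⟩; rw [map_pow]; exact hunit.pow m)
  haveI := hsm.formallySmooth
  obtain ⟨f, hf⟩ := Algebra.FormallySmooth.exists_lift J hJ g
  let ι : MvPolynomial (Fin (n + 1) ⊕ Fin (n + 1)) k →ₐ[k] S :=
    (IsScalarTower.toAlgHom k (MvPolynomial (Fin (n + 1) ⊕ Fin (n + 1)) k ⧸ Ideal.span {F, L}) S).comp (Ideal.Quotient.mkₐ k (Ideal.span {F, L}))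
  have hι0 : ∀ z ∈ Ideal.span {F, L}, ι z = 0 := fun z hz => by
    show algebraMap (MvPolynomial (Fin (n + 1) ⊕ Fin (n + 1)) k ⧸ Ideal.span {F, L}) S (Ideal.Quotient.mk (Ideal.span {F, L}) z) = 0
    rw [Ideal.Quotient.eq_zero_iff_mem.2 hz, map_zero]
  have hfι : ∀ z, Ideal.Quotient.mk J (f (ι z)) = Ideal.Quotient.mk J (aeval u z) := fun z => by
    rw [show Ideal.Quotient.mk J (f (ι z)) = g (ι z) from AlgHom.congr_fun hf (ι z)]
    exact IsLocalization.lift_eq _ (Ideal.Quotient.mk (Ideal.span {F, L}) z)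
  set j : Fin (n + 1) ⊕ Fin (n + 1) → T := fun x => f (ι (X x)) - u x with hjdef
  have hj : ∀ x, j x ∈ J := fun x => by
    rw [← Ideal.Quotient.eq_zero_iff_mem (I := J), hjdef, map_sub, hfι, aeval_X, sub_self]
  have hval : ∀ z, f (ι z) = aeval (fun x => al (P x) + (al (v x) * a + al (w x) * b + j x)) z := fun z => by
    refine AlgHom.congr_fun (MvPolynomial.algHom_ext (f := f.comp ι) fun x => ?_) z
    simp [hjdef, u]; ring
  have hL' : ∑ x, al (c x) * (al (v x) * a + al (w x) * b + j x) = 0 := by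
    have h := hval L
    rw [hι0 _ (Ideal.subset_span (by simp)), map_zero, hL, map_sum] at h
    simp only [map_mul, aeval_C, aeval_X, mul_add, Finset.sum_add_distrib] at h ⊢
    rw [hLP, zero_add] at h
    exact h.symm
  have h := hval F
  rw [hι0 _ (Ideal.subset_span (by simp)), map_zero, hFval j hj hL'] at h
  refine hne ?_
  have := congrArg (fun z => al (alt v w)⁻¹ * z) h.symm
  simp only [mul_zero, ← mul_assoc, ← map_mul, inv_mul_cancel₀ hs, map_one, one_mul] at this
  exact this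

end Groth.Agent.Zeta24.HermitianHyp
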