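import Groth.Agent.WC97.Corr
import Mathlib.LinearAlgebra.Trace

/-!
Degree-0 correspondences: classes in the radical are numerically trivial.
-/

set_option autoImplicit false
universe u v

noncomputable section

open CategoryTheory AlgebraicGeometry WeilCoh

namespace Groth.Agent.Zeta24

open Groth.Agent.WC97

variable {k : Type u} [Field k] [IsAlgClosed k] {K : Type v} [Field K] [CharZero K] (T : Theory k K)
  {X P : Var k} {p q : P ⟶ X} (hP : IsProd p q) {σ : P ⟶ P} (hσp : σ ≫ p = q) (hσq : σ ≫ q = p)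

include hP hσp hσq

theorem swap_swap : σ ≫ σ = 𝟙 P := by
  refine ObjectProperty.hom_ext _ (Over.OverMorphism.ext (hP.hom_ext ?_ ?_))
  · show sm (σ ≫ σ) ≫ sm p = sm (𝟙 P) ≫ sm p
    rw [← sm_comp, ← sm_comp, Category.assoc, hσp, hσq, Category.id_comp]
  · show sm (σ ≫ σ) ≫ sm q = sm (𝟙 P) ≫ sm q
    rw [← sm_comp, ← sm_comp, Category.assoc, hσq, hσp, Category.id_comp]

theorem pull_pull_swap (b : T.H P) : T.pull σ (T.pull σ b) = b := by
  rw [pull_pull, swap_swap hP hσp hσq, pull_id']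

theorem pull_swap_cl (ξ : P.obj.left) : T.pull σ (T.cl P (sm σ ξ)) = T.cl P ξ := by
  have hpd := pdim_section σ σ (swap_swap hP hσp hσq) ξ
  have hc : codim P.obj.left (sm σ ξ) = codim P.obj.left ξ := by simp only [codim, hpd]
  refine eq_of_tr T (mem_of_eq T (by rw [hc]) (T.pull_mem σ _ _ (T.cl_mem P (sm σ ξ)))) (T.cl_mem P ξ) fun b => ?_
  conv_lhs => rw [← pull_pull_swap T hP hσp hσq b, ← map_mul (T.pull σ), tr_swap T hP hP hσp hσq]
  conv_rhs => rw [← pull_pull_swap T hP hσp hσq b, tr_cl_mul_pull,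
    residueDegree_section σ σ (swap_swap hP hσp hσq), Nat.cast_one, one_mul]

theorem pull_swap_mem_algebraic {v : T.H P} (hv : v ∈ Submodule.span K (Set.range (T.cl P))) :
    T.pull σ v ∈ Submodule.span K (Set.range (T.cl P)) := by
  induction hv using Submodule.span_induction with
  | mem x hx =>
    obtain ⟨η, rfl⟩ := hx
    refine Submodule.subset_span ⟨sm σ η, ?_⟩
    rw [← pull_swap_cl T hP hσp hσq (sm σ η), show sm σ (sm σ η) = η by
      rw [← Scheme.Hom.comp_apply, ← sm_comp, swap_swap hP hσp hσq]; rfl]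
  | zero => rw [map_zero]; exact zero_mem _
  | add x y _ _ hx hy => rw [map_add]; exact add_mem hx hy
  | smul a x _ hx => rw [map_smul]; exact Submodule.smul_mem _ a hx

/-- If the composed correspondence action is nilpotent, the trace of the product vanishes. -/
theorem tr_mul_eq_zero_of_nilpotent (u v : T.H P) (hu : u ∈ T.gr P (D X)) (hv : v ∈ T.gr P (D X))
    (E : ∀ i : ℕ, Module.End K (T.gr X (i : ℤ))) (hE0 : ∀ i, i ≤ 2 * dim X.obj.left → IsNilpotent (E i))
    (hE : ∀ (i : ℕ) (x : T.gr X (i : ℤ)), ∃ y ∈ T.gr X (i : ℤ),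
      (∀ c, T.tr X (y * c) = T.tr P (T.pull p (x : T.H X) * u * T.pull q c)) ∧
      (∀ b, T.tr X ((E i x : T.H X) * b) = T.tr P (T.pull p y * T.pull σ v * T.pull q b))) :
    T.tr P (u * v) = 0 := by
  have h := corr_trace_formula T hP hP hσp hσq 0 u (by rw [add_zero]; exact hu) (T.pull σ v)
    (by rw [sub_zero]; exact T.pull_mem σ _ _ hv) E (fun i x => by
      obtain ⟨y, hy, h1, h2⟩ := hE i x
      exact ⟨y, mem_of_eq T (add_zero _).symm hy, h1, h2⟩)
  rw [pull_pull_swap T hP hσp hσq] at h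
  rw [h]
  refine Finset.sum_eq_zero fun i hi => ?_
  rw [(LinearMap.isNilpotent_trace_of_isNilpotent (hE0 i (Nat.lt_succ_iff.1 (Finset.mem_range.1 hi)))).eq_zero, mul_zero]

end Groth.Agent.Zeta24
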